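import Groth.Agent.H28SemiAb.GaHom
import Groth.Agent.H19Chev.PowAffine
import Groth.Agent.H19Grp.EtaleEndo
import Groth.Agent.H19Grp.HomFlat
import Groth.Agent.H19Grp.KernelGrp
import Groth.Agent.H25AbCube.TorsionStr
import Groth.Agent.H25Grp.Isogeny
import Groth.Agent.H22Alg.FibreCount

/-!
# Groups without additive subgroups: torsion
-/

set_option autoImplicit false
set_option linter.style.haveILetI false
set_option backward.isDefEq.respectTransparency false
set_option backward.isDefEq.respectTransparency.types false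
set_option maxHeartbeats 1000000
set_option synthInstance.maxHeartbeats 200000
universe u

open CategoryTheory CategoryTheory.Limits MonoidalCategory CartesianMonoidalCategory MonObj AlgebraicGeometry
open Groth.Agent

noncomputable section

namespace Groth.Agent.H28SemiAb

attribute [local instance 2000] Hom.group Hom.monoid

variable {k : Type u} [Field k]

local notation "Pts" X => 𝟙_ (Over (Spec (CommRingCat.of k))) ⟶ X

/-- There is no closed subgroup isomorphic to the additive group. -/
def NoGa (G : Over (Spec (CommRingCat.of k))) [GrpObj G] : Prop :=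
  ∀ j : Red.Ga (Spec (CommRingCat.of k)) ⟶ G, IsMonHom j → IsClosedImmersion j.left → False

theorem NoGa.of_closed {G N : Over (Spec (CommRingCat.of k))} [GrpObj G] [GrpObj N] (h : NoGa G) (i : N ⟶ G)
    [IsMonHom i] [IsClosedImmersion i.left] : NoGa N := fun j hj hjc =>
  h (j ≫ i) inferInstance (by rw [Over.comp_left]; infer_instance)

theorem comp_id_pow {T G : Over (Spec (CommRingCat.of k))} [GrpObj G] (x : T ⟶ G) (n : ℕ) :
    x ≫ ((𝟙 G) ^ n : G ⟶ G) = x ^ n := H19Chev.comp_id_pow x n

theorem isMonHom_pow {G : Over (Spec (CommRingCat.of k))} [GrpObj G] [IsCommMonObj G] (n : ℕ) :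
    IsMonHom ((𝟙 G) ^ n : G ⟶ G) :=
  WittGrp.isMonHom_of_comp_mul _ (by rw [comp_id_pow, one_pow]) fun T a b => by
    rw [comp_id_pow, comp_id_pow, comp_id_pow, mul_pow]

variable [IsAlgClosed k]

theorem finite_pts_of_finite {X : Over (Spec (CommRingCat.of k))} (s : Set X.left) (hs : s.Finite) :
    {x : Pts X | x.left (IsLocalRing.closedPoint k) ∈ s}.Finite :=
  Set.Finite.of_finite_image (hs.subset (Set.image_subset_iff.2 fun _ hx => hx)) fun x _ y _ h =>
    Over.OverMorphism.ext (H19Grp.section_ext (Over.w x) (Over.w y) h)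

/-- Invertible torsion is finite. -/
theorem finite_torsion_invertible (G : Over (Spec (CommRingCat.of k))) [GrpObj G] [IsCommMonObj G]
    [LocallyOfFiniteType G.hom] [QuasiCompact G.hom] {n : ℕ} (hn : (n : k) ≠ 0) :
    {x : Pts G | x ^ n = 1}.Finite := by
  haveI : Etale ((𝟙 G) ^ n : G ⟶ G).left := by
    have := H19Grp.etale_zpow_field' G (n : ℤ) (by rwa [Int.cast_natCast])
    rwa [zpow_natCast] at this
  haveI : QuasiCompact ((𝟙 G) ^ n : G ⟶ G).left := by
    haveI : IsSeparated G.hom := H19Grp.AffineQuotient.isSeparated_of_grp G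
    haveI : QuasiCompact (((𝟙 G) ^ n : G ⟶ G).left ≫ G.hom) := by rw [Over.w]; infer_instance
    exact QuasiCompact.of_comp _ G.hom
  refine (finite_pts_of_finite _ (Scheme.Hom.finite_preimage_singleton ((𝟙 G) ^ n : G ⟶ G).left
    ((1 : Pts G).left (IsLocalRing.closedPoint k)))).subset fun x hx => ?_
  show ((𝟙 G) ^ n : G ⟶ G).left (x.left _) = _
  rw [← Scheme.Hom.comp_apply, ← Over.comp_left, comp_id_pow, show x ^ n = 1 from hx]

/-- A smooth connected commutative group killed by the characteristic and without additive subgroup is trivial. -/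
theorem pts_eq_one_of_killed (p : ℕ) [Fact p.Prime] [CharP k p] (H : Over (Spec (CommRingCat.of k))) [GrpObj H]
    [IsCommMonObj H] [Smooth H.hom] [QuasiCompact H.hom] [ConnectedSpace H.left] (hG : NoGa H)
    (hk : ∀ x : Pts H, x ^ p = 1) (x : Pts H) : x = 1 := by
  obtain ⟨L, gL, l, Q, gQ, q, hl, hlc, hLa, hLs, hLn, hq, hqf, hqs, hqp, hker, hQp, hQs, hQn⟩ :=
    H19Chev.exists_affine_comm H
  haveI := hl; haveI := hlc; haveI := hLa; haveI := hLs; haveI := hLn; haveI := hq; haveI := hqf; haveI := hqs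
  haveI := hqp; haveI := hQp; haveI := hQs; haveI := hQn
  haveI : Mono l := Over.mono_of_mono_left _
  haveI : IsCommMonObj L := by
    refine ⟨(cancel_mono l).1 ?_⟩
    rw [Category.assoc, IsMonHom.mul_hom, ← BraidedCategory.braiding_naturality_assoc, IsCommMonObj.mul_comm]
  have hLkill : ∀ y : Pts L, y ^ p = 1 := fun y => by
    rw [← cancel_mono l, MonObj.pow_comp, MonObj.one_comp]
    exact hk _
  have hLone : ∀ y : Pts L, y = 1 := by
    by_contra hall
    push Not at hall
    have hU : Red.HasNoSubtorus k L := by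
      intro T gT j hjm hjc hT
      by_contra hne
      haveI := hjm; haveI := hjc
      haveI : Mono j := Over.mono_of_mono_left _
      obtain ⟨ℓ, hℓ, hℓk⟩ := H19Chev.UnipotentIsogeny.exists_prime_ne_zero (K := k)
      obtain ⟨t, ht⟩ := H19Chev.UnipotentIsogeny.exists_orderOf_eq hT hne ℓ hℓk
      have h1 : t ^ p = 1 := by
        rw [← cancel_mono j, MonObj.pow_comp, MonObj.one_comp]
        exact hLkill _
      have h2 := orderOf_dvd_of_pow_eq_one h1
      rw [ht] at h2
      rcases (Nat.dvd_prime (Fact.out : p.Prime)).1 h2 with h3 | h3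
      · exact hℓ.ne_one h3
      · exact hℓk (by rw [h3]; exact CharP.cast_eq_zero k p)
    obtain ⟨j, hj, hjc⟩ := exists_ga_subgroup L hU hall
    haveI := hjc
    exact (hG.of_closed l) j hj hjc
  haveI := H19Chev.isCommMonObj_of_quotient q
  haveI := H19Chev.geometricallyIntegral_av Q
  have hQ : x ≫ q = 1 := by
    obtain ⟨b, hb⟩ := H25AbCube.exists_pow_eq (A := Q) (Fact.out : p.Prime).pos (x ≫ q)
    obtain ⟨y, hy⟩ := H19Chev.exists_pt_lift q b
    rw [← hb, ← hy, ← MonObj.pow_comp, hk, MonObj.one_comp]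
  obtain ⟨y, rfl⟩ := H19Grp.kernel_lift hker x hQ
  rw [hLone y, MonObj.one_comp]

/-- Torsion at the characteristic is finite without additive subgroups. -/
theorem finite_torsion_char (p : ℕ) [Fact p.Prime] [CharP k p] (G : Over (Spec (CommRingCat.of k))) [GrpObj G]
    [IsCommMonObj G] [LocallyOfFiniteType G.hom] [QuasiCompact G.hom] (hG : NoGa G) :
    {x : Pts G | x ^ p = 1}.Finite := by
  classical
  let φ : G ⟶ G := (𝟙 G) ^ p
  haveI : IsMonHom φ := isMonHom_pow p
  obtain ⟨gK, hi⟩ := H19Grp.KernelGrp.exists_grpObj φ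
  let K := H19Grp.KernelGrp.ker φ
  let i : K ⟶ G := H19Grp.KernelGrp.incl φ
  haveI : IsMonHom i := hi
  haveI := H19Grp.KernelGrp.isCommMonObj φ
  haveI : IsSeparated G.hom := H19Grp.AffineQuotient.isSeparated_of_grp G
  haveI := H19Grp.AffineQuotient.isClosedImmersion_unit G
  haveI : IsClosedImmersion i.left := MorphismProperty.pullback_fst (P := @IsClosedImmersion) _ _ inferInstance
  haveI : LocallyOfFiniteType K.hom := by rw [← Over.w i]; infer_instance
  haveI : QuasiCompact K.hom := by rw [← Over.w i]; infer_instance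
  obtain ⟨gR, hrr⟩ := H19Grp.GroupCI.exists_grpObj_reduced K
  let R : Over (Spec (CommRingCat.of k)) := Over.mk (K.left.nilradical.subschemeι ≫ K.hom)
  let rr : R ⟶ K := Over.homMk K.left.nilradical.subschemeι rfl
  haveI : IsMonHom rr := hrr
  haveI : IsReduced R.left := inferInstanceAs (IsReduced K.left.nilradical.subscheme)
  haveI : IsClosedImmersion rr.left := inferInstanceAs (IsClosedImmersion K.left.nilradical.subschemeι)
  haveI : LocallyOfFiniteType R.hom := by rw [← Over.w rr]; infer_instance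
  haveI : QuasiCompact R.hom := by rw [← Over.w rr]; infer_instance
  haveI : Smooth R.hom := H19Grp.smooth_of_isReduced_perfect R
  obtain ⟨H, gH, j, hj, hjc, hjo, hHn, hHs, hHq, h1⟩ := H19Chev.exists_smooth_idComp R
  haveI := hj; haveI := hjc; haveI := hjo; haveI := hHn; haveI := hHs; haveI := hHq
  let m : H ⟶ G := j ≫ rr ≫ i
  haveI : IsClosedImmersion m.left := by simp only [m, Over.comp_left]; infer_instance
  haveI : Mono m := Over.mono_of_mono_left _
  haveI : IsCommMonObj H := by
    refine ⟨(cancel_mono m).1 ?_⟩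
    rw [Category.assoc, IsMonHom.mul_hom, ← BraidedCategory.braiding_naturality_assoc, IsCommMonObj.mul_comm]
  have hkill : ∀ x : Pts H, x ^ p = 1 := fun x => by
    rw [← cancel_mono m, MonObj.pow_comp, MonObj.one_comp, ← comp_id_pow]
    simp only [m, Category.assoc]
    rw [H19Grp.kernel_comp_eq_one (H19Grp.KernelGrp.isKernel φ), MonObj.comp_one, MonObj.comp_one, MonObj.comp_one]
  have hH : ∀ x : Pts H, x = 1 := pts_eq_one_of_killed p H (hG.of_closed m) hkill
  haveI : CompactSpace R.left := QuasiCompact.compactSpace_of_compactSpace R.hom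
  obtain ⟨s, hs⟩ := H19Chev.finite_classes j h1
  have hR : ∀ x : Pts R, x ∈ s := fun x => by
    obtain ⟨g, hg, a, ha⟩ := hs x
    rw [hH a, MonObj.one_comp] at ha
    rwa [eq_of_mul_inv_eq_one ha.symm]
  refine (s.finite_toSet.image fun z : Pts R => z ≫ rr ≫ i).subset fun x hx => ?_
  obtain ⟨y, rfl⟩ := H19Grp.kernel_lift (H19Grp.KernelGrp.isKernel φ) x (by
    rw [comp_id_pow]; exact hx)
  haveI : IsReduced (𝟙_ (Over (Spec (CommRingCat.of k)))).left :=
    inferInstanceAs (IsReduced (Spec (CommRingCat.of k)))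
  haveI : Surjective rr.left := ⟨fun z => by
    have : Set.range K.left.nilradical.subschemeι = Set.univ := by
      rw [Scheme.IdealSheafData.range_subschemeι, Scheme.support_nilradical]
      rfl
    exact this.ge trivial⟩
  obtain ⟨w, hw⟩ := H17.exists_lift_of_range_subset y.left rr.left (fun z _ => rr.left.surjective z)
  let z : Pts R := Over.homMk w (by rw [← Over.w y, ← hw, Category.assoc, Over.w rr])
  have hz : z ≫ rr = y := Over.OverMorphism.ext hw
  exact ⟨z, hR z, by show z ≫ rr ≫ i = y ≫ i; rw [reassoc_of% hz]⟩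

/-- **Without additive subgroups all torsion is finite.** -/
theorem finite_torsion (G : Over (Spec (CommRingCat.of k))) [GrpObj G] [IsCommMonObj G]
    [LocallyOfFiniteType G.hom] [QuasiCompact G.hom] (hG : NoGa G) :
    ∀ {n : ℕ}, 0 < n → {x : Pts G | x ^ n = 1}.Finite := by
  intro n
  induction n using induction_on_primes with
  | zero => exact fun h => absurd h (lt_irrefl 0)
  | one => exact fun _ => (Set.finite_singleton (1 : Pts G)).subset fun x hx => (pow_one x).symm.trans hx
  | prime_mul ℓ m hℓ ih =>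
    intro hpos
    have hfm := ih (Nat.pos_of_ne_zero fun h0 => by simp [h0] at hpos)
    have hfℓ : {x : Pts G | x ^ ℓ = 1}.Finite := by
      by_cases hℓk : (ℓ : k) = 0
      · haveI := Fact.mk hℓ
        haveI : CharP k ℓ := by
          obtain ⟨c, hc⟩ := CharP.exists k
          haveI := hc
          have hd := (CharP.cast_eq_zero_iff k c ℓ).1 hℓk
          rcases (Nat.dvd_prime hℓ).1 hd with h1 | h1
          · exact absurd h1 (CharP.char_ne_one k c)
          · subst h1; exact hc
        exact finite_torsion_char ℓ G hG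
      · exact finite_torsion_invertible G hℓk
    refine Set.Finite.of_finite_fibers (fun x : Pts G => x ^ ℓ) (hfm.subset ?_) fun a _ => ?_
    · rintro _ ⟨x, hx, rfl⟩
      show (x ^ ℓ) ^ m = 1
      rw [← pow_mul]; exact hx
    · rcases Set.eq_empty_or_nonempty ({x : Pts G | x ^ (ℓ * m) = 1} ∩ (fun x : Pts G => x ^ ℓ) ⁻¹' {a}) with h | ⟨x₀, hx₀⟩
      · rw [h]; exact Set.finite_empty
      · refine (hfℓ.image fun t => t * x₀).subset fun x hx => ⟨x * x₀⁻¹, ?_, inv_mul_cancel_right x x₀⟩
        show (x * x₀⁻¹) ^ ℓ = 1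
        rw [mul_pow, inv_pow, show x ^ ℓ = a from hx.2, show x₀ ^ ℓ = a from hx₀.2, mul_inv_cancel]

/-- Multiplication by a positive integer is finite. -/
theorem isFinite_pow (G : Over (Spec (CommRingCat.of k))) [GrpObj G] [IsCommMonObj G]
    [LocallyOfFiniteType G.hom] [QuasiCompact G.hom] (hG : NoGa G) {n : ℕ} (hn : 0 < n) :
    IsFinite ((𝟙 G) ^ n : G ⟶ G).left := by
  haveI := isMonHom_pow (G := G) n
  refine H19Chev.isFinite_of_finite_ker _ ((finite_torsion G hG hn).subset fun x hx => ?_)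
  show x ^ n = 1
  rw [← comp_id_pow]; exact hx

theorem surjective_flat_pow (G : Over (Spec (CommRingCat.of k))) [GrpObj G] [IsCommMonObj G]
    [Smooth G.hom] [QuasiCompact G.hom] [ConnectedSpace G.left] (hG : NoGa G) {n : ℕ} (hn : 0 < n) :
    Surjective ((𝟙 G) ^ n : G ⟶ G).left ∧ Flat ((𝟙 G) ^ n : G ⟶ G).left := by
  haveI := H19Chev.geometricallyIntegral_grp G
  haveI : IsIntegral G.left := GeometricallyIntegral.isIntegral_of_subsingleton G.hom
  haveI := isFinite_pow G hG hn
  haveI := isMonHom_pow (G := G) n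
  haveI : Surjective ((𝟙 G) ^ n : G ⟶ G).left :=
    H25Grp.surjective_of_finite G.hom G.hom ((𝟙 G) ^ n : G ⟶ G).left rfl
  exact ⟨inferInstance, H19Grp.flat_of_surjective _⟩

theorem pts_eq_one_of_subsingleton {X : Over (Spec (CommRingCat.of k))} [GrpObj X] (h : Subsingleton X.left)
    (x : Pts X) : x = 1 :=
  Over.OverMorphism.ext (H19Grp.section_ext (Over.w x) (Over.w (1 : Pts X)) (h.elim _ _))

/-- A nontrivial smooth connected group has a nonzero tangent vector at the origin. -/
theorem exists_tangent (G : Over (Spec (CommRingCat.of k))) [GrpObj G] [Smooth G.hom] [ConnectedSpace G.left]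
    (hne : ∃ x : Pts G, x ≠ 1) :
    ∃ x : H19Grp.TangentPow.sqz k k ⟶ G, H19Grp.TangentPow.red k k ≫ x = 1 ∧ x ≠ 1 := by
  by_contra hall
  push Not at hall
  haveI : IsMonHom (1 : G ⟶ G) := WittGrp.isMonHom_of_comp_mul _ (MonObj.comp_one _) fun T a b => by
    rw [MonObj.comp_one, MonObj.comp_one, MonObj.comp_one, _root_.one_mul]
  haveI : Etale (1 : G ⟶ G).left := H19Grp.etale_endo_of_tangent_isAlgClosed (1 : G ⟶ G) fun x hx _ => hall x hx
  have hopen := (1 : G ⟶ G).left.isOpenMap _ isOpen_univ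
  have hsub : ((1 : G ⟶ G).left '' Set.univ) = {(1 : Pts G).left (IsLocalRing.closedPoint k)} := by
    refine Set.eq_singleton_iff_unique_mem.2 ⟨⟨(1 : Pts G).left (IsLocalRing.closedPoint k), trivial, ?_⟩, ?_⟩
    · rw [← Scheme.Hom.comp_apply, ← Over.comp_left, MonObj.comp_one]
    · rintro _ ⟨z, -, rfl⟩
      have : (1 : G ⟶ G) = toUnit G ≫ (1 : Pts G) := (MonObj.comp_one _).symm
      rw [this, Over.comp_left, Scheme.Hom.comp_apply]
      exact congrArg (1 : Pts G).left (Subsingleton.elim (α := PrimeSpectrum k) _ _)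
  rw [hsub] at hopen
  haveI : IsSeparated G.hom := H19Grp.AffineQuotient.isSeparated_of_grp G
  have huniv : ({(1 : Pts G).left (IsLocalRing.closedPoint k)} : Set G.left) = Set.univ :=
    (isClopen_iff.1 ⟨H19Grp.isClosed_range_of_section (1 : Pts G).left (Over.w _), hopen⟩).resolve_left
      (Set.singleton_nonempty _).ne_empty
  obtain ⟨x, hx⟩ := hne
  refine hx (Over.OverMorphism.ext (H19Grp.section_ext (Over.w x) (Over.w (1 : Pts G)) ?_))
  exact huniv.ge trivial

/-- Torsion of every prime order different from the characteristic exists. -/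
theorem exists_torsion_pt (G : Over (Spec (CommRingCat.of k))) [GrpObj G] [IsCommMonObj G] [Smooth G.hom]
    [QuasiCompact G.hom] [ConnectedSpace G.left] (hG : NoGa G) (hne : ∃ x : Pts G, x ≠ 1) {ℓ : ℕ} (hℓ : ℓ.Prime)
    (hℓk : (ℓ : k) ≠ 0) : ∃ x : Pts G, x ^ ℓ = 1 ∧ x ≠ 1 := by
  by_contra hall
  push Not at hall
  obtain ⟨L, gL, l, Q, gQ, q, hl, hlc, hLa, hLs, hLn, hq, hqf, hqs, hqp, hker, hQp, hQs, hQn⟩ :=
    H19Chev.exists_affine_comm G
  haveI := hl; haveI := hlc; haveI := hLa; haveI := hLs; haveI := hLn; haveI := hq; haveI := hqf; haveI := hqs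
  haveI := hqp; haveI := hQp; haveI := hQs; haveI := hQn
  haveI : Mono l := Over.mono_of_mono_left _
  haveI : IsCommMonObj L := by
    refine ⟨(cancel_mono l).1 ?_⟩
    rw [Category.assoc, IsMonHom.mul_hom, ← BraidedCategory.braiding_naturality_assoc, IsCommMonObj.mul_comm]
  haveI := H19Chev.isCommMonObj_of_quotient q
  haveI := H19Chev.geometricallyIntegral_av Q
  have hL : ∀ y : Pts L, y = 1 := by
    by_contra hL'
    push Not at hL'
    have hℓL : ∀ y : Pts L, y ^ ℓ = 1 → y = 1 := fun y hy => by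
      rw [← cancel_mono l, MonObj.one_comp]
      exact hall _ (by rw [← MonObj.pow_comp, hy, MonObj.one_comp])
    haveI : IsFinite (𝟙 L : L ⟶ L).left := inferInstanceAs (IsFinite (𝟙 L.left))
    obtain ⟨j, hj, hjc⟩ := exists_ga_subgroup L
      (H19Chev.UnipotentIsogeny.hasNoSubtorus_of_finite_hom (𝟙 L) ℓ hℓ hℓk hℓL) hL'
    exact (hG.of_closed l) j hj hjc
  have hinj : ∀ x : Pts G, x ≫ q = 1 → x = 1 := fun x hx => by
    obtain ⟨y, rfl⟩ := H19Grp.kernel_lift hker x hx
    rw [hL y, MonObj.one_comp]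
  haveI : Nonempty Q.left := ⟨(1 : Pts Q).left (IsLocalRing.closedPoint k)⟩
  obtain ⟨θ, -, hθ⟩ := H22Alg.FibreCount.exists_dim_eq Q.hom
  obtain ⟨g, hg⟩ : ∃ g : ℕ, topologicalKrullDim Q.left = g := by
    obtain ⟨s, hs⟩ := H8Props.FieldDim.exists_nat_cdim Q.hom θ
    exact ⟨s, hθ.trans hs⟩
  haveI : IsIntegral Q.left := GeometricallyIntegral.isIntegral_of_subsingleton Q.hom
  have hg0 : g ≠ 0 := fun h0 => by
    obtain ⟨x, hx⟩ := hne
    exact hx (hinj x (pts_eq_one_of_subsingleton
      (H19Chev.subsingleton_of_dim_nonpos (by rw [hg, h0]; simp)) _))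
  haveI hfin := H25AbCube.finite_torsPts (A := Q) hℓ.pos
  have hcard := H25AbCube.card_torsPts (A := Q) hℓk g hg
  have hsub : Subsingleton (AbDual.torsPts Q ℓ (Over.mk (𝟙 (Spec (CommRingCat.of k))))) := by
    refine ⟨fun a b => Subtype.ext ?_⟩
    have key : ∀ a : Pts Q, a ^ ℓ = 1 → a = 1 := fun a ha => by
      obtain ⟨x, rfl⟩ := H19Chev.exists_pt_lift q a
      have h1 : x ^ ℓ = 1 := hinj _ (by rw [MonObj.pow_comp]; exact ha)
      rw [hall x h1, MonObj.one_comp]
    exact (key a.1 a.2).trans (key b.1 b.2).symm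
  rw [Nat.card_unique] at hcard
  exact absurd hcard.symm (Nat.one_lt_pow (by omega) hℓ.one_lt).ne'

/-- **Multiplication by `n ≥ 2` is not invertible.** -/
theorem pts_eq_one_of_pow_split (G : Over (Spec (CommRingCat.of k))) [GrpObj G] [IsCommMonObj G] [Smooth G.hom]
    [QuasiCompact G.hom] [ConnectedSpace G.left] (hG : NoGa G) {n : ℕ} (hn : 2 ≤ n) (v : G ⟶ G)
    (hv : ((𝟙 G) ^ n : G ⟶ G) ≫ v = 𝟙 G) (x : Pts G) : x = 1 := by
  by_contra hx
  obtain ⟨ℓ, hℓ, c, rfl⟩ := Nat.exists_prime_and_dvd (n := n) (by omega)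
  have hmono : ∀ {T : Over (Spec (CommRingCat.of k))} (a b : T ⟶ G), a ^ ℓ = b ^ ℓ → a = b := fun a b h => by
    have := congrArg (fun z => z ≫ v) (congrArg (fun z => z ^ c) h)
    simp only [← pow_mul] at this
    rwa [← comp_id_pow a, ← comp_id_pow b, Category.assoc, Category.assoc, hv, Category.comp_id, Category.comp_id] at this
  by_cases hℓk : (ℓ : k) = 0
  · obtain ⟨t, ht, ht1⟩ := exists_tangent G ⟨x, hx⟩
    refine ht1 (hmono t 1 ?_)
    rw [one_pow, ← H19Grp.TangentPow.scale_natCast ht, hℓk, H19Grp.TangentPow.scale_zero ht]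
  · obtain ⟨y, hy, hy1⟩ := exists_torsion_pt G hG ⟨x, hx⟩ hℓ hℓk
    exact hy1 (hmono y 1 (by rw [one_pow, hy]))

end Groth.Agent.H28SemiAb
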