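import Groth.Agent.H28SemiAb.Basic
import Groth.Agent.H19Grp.QuotientDesc
import Groth.Agent.H19Quot.AbelianCat

/-!
# Groups without additive subgroups over an arbitrary field
-/

set_option autoImplicit false
set_option linter.style.haveILetI false
set_option backward.isDefEq.respectTransparency false
set_option backward.isDefEq.respectTransparency.types false
set_option maxHeartbeats 1000000
set_option synthInstance.maxHeartbeats 200000
universe u

open CategoryTheory CategoryTheory.Limits MonoidalCategory CartesianMonoidalCategory MonObj AlgebraicGeometry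
open Groth.Agent

noncomputable section

namespace Groth.Agent.H28SemiAb

attribute [local instance] Functor.grpObjObj
attribute [local instance 2000] Hom.group Hom.monoid

section AlgClosed

variable {k : Type u} [Field k] [IsAlgClosed k]

local notation "Pts" X => 𝟙_ (Over (Spec (CommRingCat.of k))) ⟶ X

/-- A homomorphism commuting with `W` and fixed by `W ∘ [n]`, `n ≥ 2`, is trivial. -/
theorem eq_one_of_div_algClosed (G : Over (Spec (CommRingCat.of k))) [GrpObj G] [IsCommMonObj G] [Smooth G.hom]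
    [QuasiCompact G.hom] [ConnectedSpace G.left] (hG : NoGa G) {n : ℕ} (hn : 2 ≤ n) (d W : G ⟶ G) [IsMonHom d]
    [IsMonHom W] (hc : d ≫ W = W ≫ d) (h : d ≫ ((𝟙 G) ^ n : G ⟶ G) ≫ W = d) : d = 1 := by
  haveI : LocallyOfFiniteType G.hom := inferInstance
  obtain ⟨C, gC, p, j, hp, hj, hpj, hpf, hps, hpp, hjc⟩ :=
    H19Quot.AbelianCat.exists_image d ⟨inferInstance, inferInstance⟩ ⟨inferInstance, inferInstance⟩
  haveI := hp; haveI := hj; haveI := hpf; haveI := hps; haveI := hpp; haveI := hjc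
  haveI : Mono j := Over.mono_of_mono_left _
  haveI : LocallyOfFiniteType C.hom := by rw [← Over.w j]; infer_instance
  obtain ⟨hCs, hCn⟩ := H19Chev.smooth_connected_image p
  haveI := hCs; haveI := hCn
  haveI : QuasiCompact C.hom := by rw [← Over.w j]; infer_instance
  haveI : IsCommMonObj C := H19Chev.isCommMonObj_of_quotient p
  obtain ⟨v, hv, -⟩ := H19Grp.QuotientDesc.existsUnique_desc p (W ≫ p) fun T a b hab => by
    rw [← cancel_mono j]
    simp only [Category.assoc, hpj, ← hc]
    rw [← hpj, Category.assoc, reassoc_of% hab]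
  have hvj : v ≫ j = j ≫ W := H19Chev.cancel_quotient p (by
    rw [← Category.assoc, hv, Category.assoc, hpj, ← Category.assoc, hpj, hc])
  have hv1 : ((𝟙 C) ^ n : C ⟶ C) ≫ v = 𝟙 C := by
    rw [← cancel_mono j, Category.assoc, hvj, ← Category.assoc, H19Chev.id_pow_comp j n, Category.id_comp]
    refine H19Chev.cancel_quotient p ?_
    rw [← Category.assoc, ← Category.assoc, hpj, Category.assoc, h]
  have hC1 : ∀ c : Pts C, c = 1 := pts_eq_one_of_pow_split C (hG.of_closed j) hn v hv1
  haveI : IsReduced G.left := H19Chev.isReduced_smooth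
  haveI : IsSeparated G.hom := H19Grp.AffineQuotient.isSeparated_of_grp G
  refine H25AbCube.ext_of_points d 1 fun a => ?_
  rw [MonObj.comp_one, ← hpj, ← Category.assoc, hC1 (a ≫ p), MonObj.one_comp]

end AlgClosed

section Bc

variable {k Ω : Type u} [Field k] [Field Ω] (g : Spec (CommRingCat.of Ω) ⟶ Spec (CommRingCat.of k))

theorem fpqc_field : Surjective g ∧ Flat g ∧ QuasiCompact g := by
  obtain ⟨φ, rfl⟩ := Spec.map_surjective g
  refine ⟨⟨fun x => ⟨IsLocalRing.closedPoint Ω, Subsingleton.elim (α := PrimeSpectrum k) _ _⟩⟩, ?_, inferInstance⟩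
  rw [HasRingHomProperty.Spec_iff (P := @Flat)]
  algebraize [φ.hom]
  exact (inferInstance : Module.Flat k Ω)

theorem isPullback_bc {A B : Over (Spec (CommRingCat.of k))} (e : A ⟶ B) :
    IsPullback ((Over.pullback g).map e).left (pullback.fst A.hom g) (pullback.fst B.hom g) e.left := by
  refine (IsPullback.of_bot (v₂₁ := pullback.snd B.hom g) (v₂₂ := B.hom) ?_ ?_
    (IsPullback.of_hasPullback B.hom g)).flip
  · simp only [Over.pullback_map_left, pullback.lift_snd, Over.w]
    exact IsPullback.of_hasPullback A.hom g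
  · simp only [Over.pullback_map_left, pullback.lift_fst]

theorem fpqc_fst (A : Over (Spec (CommRingCat.of k))) :
    H18Descent.fpqc (pullback.fst A.hom g) := by
  obtain ⟨h1, h2, h3⟩ := fpqc_field g
  exact ⟨⟨MorphismProperty.pullback_fst (P := @Surjective) _ _ h1, MorphismProperty.pullback_fst (P := @Flat) _ _ h2⟩,
    MorphismProperty.pullback_fst (P := @QuasiCompact) _ _ h3⟩

theorem map_injective {T G : Over (Spec (CommRingCat.of k))} {a b : T ⟶ G}
    (h : (Over.pullback g).map a = (Over.pullback g).map b) : a = b := by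
  obtain ⟨⟨h1, h2⟩, h3⟩ := fpqc_fst g T
  haveI := h1; haveI := h2; haveI := h3
  haveI : Epi (pullback.fst T.hom g) := Flat.epi_of_flat_of_surjective _
  apply Over.OverMorphism.ext
  rw [← cancel_epi (pullback.fst T.hom g)]
  have h1 := congrArg (fun m => m.left ≫ pullback.fst G.hom g) h
  simpa [Over.pullback_map_left] using h1

theorem map_pow_id (G : Over (Spec (CommRingCat.of k))) [GrpObj G] (n : ℕ) :
    (Over.pullback g).map ((𝟙 G) ^ n : G ⟶ G) =
      ((𝟙 ((Over.pullback g).obj G)) ^ n : (Over.pullback g).obj G ⟶ (Over.pullback g).obj G) := by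
  rw [← (Over.pullback g).map_id G]
  exact map_pow (Functor.homMonoidHom (Over.pullback g)) _ n

theorem bc_props (G : Over (Spec (CommRingCat.of k))) [GrpObj G] [Smooth G.hom] [ConnectedSpace G.left] :
    QuasiCompact G.hom ∧ Smooth ((Over.pullback g).obj G).hom ∧ QuasiCompact ((Over.pullback g).obj G).hom ∧
      ConnectedSpace ((Over.pullback g).obj G).left := by
  haveI : CompactSpace G.left := H19Grp.compactSpace_of_connected (H19Grp.grpToGrpd G) (Iso.refl _)
  haveI : QuasiCompact G.hom := (quasiCompact_iff_compactSpace (f := G.hom)).2 inferInstance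
  haveI := H19Chev.geometricallyIntegral_grp G
  haveI : IsIntegral ((Over.pullback g).obj G).left :=
    GeometricallyIntegral.isIntegral_of_subsingleton (pullback.snd G.hom g)
  exact ⟨inferInstance, inferInstanceAs (Smooth (pullback.snd G.hom g)),
    inferInstanceAs (QuasiCompact (pullback.snd G.hom g)), inferInstance⟩

variable [IsAlgClosed Ω]

/-- Multiplication by a positive integer is fppf surjective. -/
theorem fppf_pow (G : Over (Spec (CommRingCat.of k))) [GrpObj G] [IsCommMonObj G] [Smooth G.hom]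
    [ConnectedSpace G.left] (hG : NoGa ((Over.pullback g).obj G)) {n : ℕ} (hn : 0 < n) :
    Flat ((𝟙 G) ^ n : G ⟶ G).left ∧ Surjective ((𝟙 G) ^ n : G ⟶ G).left ∧
      LocallyOfFinitePresentation ((𝟙 G) ^ n : G ⟶ G).left := by
  obtain ⟨h1, h2, h3, h4⟩ := bc_props g G
  haveI := h1; haveI := h2; haveI := h3; haveI := h4
  obtain ⟨hs, hf⟩ := surjective_flat_pow ((Over.pullback g).obj G) hG hn
  rw [← map_pow_id g G n] at hs hf
  haveI := hs; haveI := hf
  have hpb := isPullback_bc g ((𝟙 G) ^ n : G ⟶ G)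
  have hq := fpqc_fst g G
  refine ⟨MorphismProperty.of_isPullback_of_descendsAlong (P := @Flat) (Q := H18Descent.fpqc) hpb (fpqc_fst g G) hf,
    ?_, ?_⟩
  · haveI := hq.1.1
    haveI : Surjective (((Over.pullback g).map ((𝟙 G) ^ n : G ⟶ G)).left ≫ pullback.fst G.hom g) := inferInstance
    rw [hpb.w] at this
    exact Surjective.of_comp (pullback.fst G.hom g) _
  · haveI : LocallyOfFiniteType (((𝟙 G) ^ n : G ⟶ G).left ≫ G.hom) := by rw [Over.w]; infer_instance
    haveI : LocallyOfFiniteType ((𝟙 G) ^ n : G ⟶ G).left := locallyOfFiniteType_of_comp _ G.hom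
    haveI : IsNoetherianRing (CommRingCat.of k) := inferInstanceAs (IsNoetherianRing k)
    haveI : IsLocallyNoetherian G.left := LocallyOfFiniteType.isLocallyNoetherian G.hom
    infer_instance

/-- A morphism killed by a positive integer is trivial. -/
theorem eq_one_of_pow_eq_one (G : Over (Spec (CommRingCat.of k))) [GrpObj G] [IsCommMonObj G] [Smooth G.hom]
    [ConnectedSpace G.left] (hG : NoGa ((Over.pullback g).obj G)) {n : ℕ} (hn : 0 < n) (f : G ⟶ G) [IsMonHom f]
    (h : f ^ n = 1) : f = 1 := by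
  obtain ⟨h1, h2, h3⟩ := fppf_pow g G hG hn
  haveI := h1; haveI := h2; haveI := h3
  refine H19Chev.cancel_quotient ((𝟙 G) ^ n : G ⟶ G) ?_
  rw [H19Chev.id_pow_comp f n, H19Chev.comp_id_pow, h, MonObj.comp_one]

/-- A homomorphism killing the `n`-torsion is divisible by `n`. -/
theorem exists_div (G : Over (Spec (CommRingCat.of k))) [GrpObj G] [IsCommMonObj G] [Smooth G.hom]
    [ConnectedSpace G.left] (hG : NoGa ((Over.pullback g).obj G)) {n : ℕ} (hn : 0 < n) (f : G ⟶ G) [IsMonHom f]
    (h : ∀ (T : Over (Spec (CommRingCat.of k))) (x : T ⟶ G), x ^ n = 1 → x ≫ f = 1) :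
    ∃ v : G ⟶ G, IsMonHom v ∧ v ^ n = f ∧ ((𝟙 G) ^ n : G ⟶ G) ≫ v = f := by
  obtain ⟨h1, h2, h3⟩ := fppf_pow g G hG hn
  haveI := h1; haveI := h2; haveI := h3
  haveI := isMonHom_pow (G := G) n
  obtain ⟨v, hv, -⟩ := H19Grp.QuotientDesc.existsUnique_desc ((𝟙 G) ^ n : G ⟶ G) f fun T a b hab => by
    rw [comp_id_pow, comp_id_pow] at hab
    have h' := h T (a * b⁻¹) (by rw [mul_pow, inv_pow, hab, mul_inv_cancel])
    rw [MonObj.mul_comp, GrpObj.inv_comp] at h'
    exact eq_of_mul_inv_eq_one h'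
  haveI hvm : IsMonHom v := by
    haveI := H21Quot.flat_tensorHom ((𝟙 G) ^ n : G ⟶ G) ((𝟙 G) ^ n : G ⟶ G)
    haveI := H21Quot.surjective_tensorHom ((𝟙 G) ^ n : G ⟶ G) ((𝟙 G) ^ n : G ⟶ G)
    haveI := H21Quot.lfp_tensorHom ((𝟙 G) ^ n : G ⟶ G) ((𝟙 G) ^ n : G ⟶ G)
    refine ⟨?_, H19Chev.cancel_quotient (((𝟙 G) ^ n : G ⟶ G) ⊗ₘ ((𝟙 G) ^ n : G ⟶ G)) ?_⟩
    · conv_lhs => rw [← IsMonHom.one_hom ((𝟙 G) ^ n : G ⟶ G)]
      rw [Category.assoc, hv, IsMonHom.one_hom]
    · rw [← reassoc_of% (IsMonHom.mul_hom ((𝟙 G) ^ n : G ⟶ G)), hv, IsMonHom.mul_hom f, tensorHom_comp_tensorHom_assoc, hv]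
  refine ⟨v, hvm, ?_, hv⟩
  rw [← H19Chev.comp_id_pow, ← H19Chev.id_pow_comp v n, hv]

/-- A homomorphism commuting with `W` and fixed by `W ∘ [n]`, `n ≥ 2`, is trivial. -/
theorem eq_one_of_div (G : Over (Spec (CommRingCat.of k))) [GrpObj G] [IsCommMonObj G] [Smooth G.hom]
    [ConnectedSpace G.left] (hG : NoGa ((Over.pullback g).obj G)) {n : ℕ} (hn : 2 ≤ n) (d W : G ⟶ G) [IsMonHom d]
    [IsMonHom W] (hc : d ≫ W = W ≫ d) (h : d ≫ ((𝟙 G) ^ n : G ⟶ G) ≫ W = d) : d = 1 := by
  obtain ⟨h1, h2, h3, h4⟩ := bc_props g G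
  haveI := h2; haveI := h3; haveI := h4
  refine map_injective g ?_
  rw [eq_one_of_div_algClosed ((Over.pullback g).obj G) hG hn ((Over.pullback g).map d) ((Over.pullback g).map W)
    (by rw [← Functor.map_comp, ← Functor.map_comp, hc])
    (by rw [← map_pow_id g G n, ← Functor.map_comp, ← Functor.map_comp, h])]
  exact (map_one (Functor.homMonoidHom (Over.pullback g))).symm

end Bc

end Groth.Agent.H28SemiAb
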