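import Mathlib

/-!
# An automorphism congruent to one modulo `n`
-/

set_option autoImplicit false

open Polynomial

namespace Groth.Agent.H28SemiAb

variable {S : Type*} [Ring S]

/-- Multiplication by a positive integer is injective, and there are no nonzero elements fixed by a
commuting multiple of a positive integer at least two. -/
structure NoDiv (S : Type*) [Ring S] : Prop where
  torsionFree : ∀ (n : ℕ) (x : S), 0 < n → (n : S) * x = 0 → x = 0
  noDiv : ∀ (n : ℕ) (d W : S), 2 ≤ n → Commute d W → (n : S) * (W * d) = d → d = 0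

theorem sum_one_add_mul_pow (q : ℕ) (y : S) :
    ∃ P : S, Commute P y ∧ ∑ i ∈ Finset.range q, (1 + y) ^ i = (q : S) + y * P ∧
      ∀ n : S, Commute n y → ∀ w : S, y = n * w → Commute n w →
        ∃ R : S, Commute R y ∧ P = ((q.choose 2 : ℕ) : S) + n * R := by
  refine ⟨aeval y (∑ i ∈ Finset.range q, ∑ j ∈ Finset.range i, ((i.choose (j + 1) : ℕ) : ℤ[X]) * X ^ j),
    ?_, ?_, ?_⟩
  · exact Commute.symm (Algebra.commute_of_mem_adjoin_singleton_of_commute
      (aeval_mem_adjoin_singleton ℤ y) (Commute.refl y)).symm |>.symm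
  · rw [map_sum, Finset.mul_sum]
    conv_rhs => rw [show (q : S) = ∑ i ∈ Finset.range q, (1 : S) by simp]
    rw [← Finset.sum_add_distrib]
    refine Finset.sum_congr rfl fun i _ => ?_
    rw [add_comm (1 : S) y, (Commute.one_right y).add_pow, Finset.sum_range_succ', map_sum, Finset.mul_sum, add_comm]
    congr 1
    · simp
    · refine Finset.sum_congr rfl fun j _ => ?_
      simp only [map_mul, map_natCast, map_pow, aeval_X, one_pow, _root_.mul_one]
      rw [← mul_assoc y, ← (Nat.cast_commute _ y).eq, mul_assoc, ← pow_succ']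
      exact ((Nat.cast_commute _ (y ^ (j + 1))).eq).symm
  · intro n _ w hw hnw
    refine ⟨w * aeval y (∑ i ∈ Finset.range q, ∑ j ∈ Finset.range (i - 1), ((i.choose (j + 2) : ℕ) : ℤ[X]) * X ^ j), ?_, ?_⟩
    · refine Commute.mul_left ?_ ?_
      · rw [hw]; exact (hnw.symm.mul_right (Commute.refl w))
      · exact (Algebra.commute_of_mem_adjoin_singleton_of_commute
          (aeval_mem_adjoin_singleton ℤ y) (Commute.refl y)).symm
    · rw [← mul_assoc, ← hw, map_sum, map_sum, Finset.mul_sum]
      have hc : ((q.choose 2 : ℕ) : S) = ∑ i ∈ Finset.range q, ((i : ℕ) : S) := by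
        rw [← Nat.cast_sum, Finset.sum_range_id, Nat.choose_two_right]
      rw [hc, ← Finset.sum_add_distrib]
      refine Finset.sum_congr rfl fun i _ => ?_
      rcases i with _ | i
      · simp
      rw [map_sum, map_sum, Finset.mul_sum, Finset.sum_range_succ', Nat.add_sub_cancel, add_comm]
      congr 1
      · simp
      · refine Finset.sum_congr rfl fun j _ => ?_
        simp only [map_mul, map_natCast, map_pow, aeval_X]
        rw [← mul_assoc, ← (Nat.cast_commute _ y).eq, mul_assoc, ← pow_succ']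

/-- An element of prime order congruent to one modulo `n` is one, unless `n = q = 2`. -/
theorem eq_one_of_prime_order (hS : NoDiv S) {n q : ℕ} (hn : 2 ≤ n) (hq : q.Prime) (hnq : ¬ (n = 2 ∧ q = 2))
    (u v : S) (hu : u = 1 + (n : S) * v) (huq : u ^ q = 1) : u = 1 := by
  obtain ⟨y, hy⟩ : ∃ y, y = (n : S) * v := ⟨_, rfl⟩
  rw [← hy] at hu
  obtain ⟨P, hPy, hsum, hP⟩ := sum_one_add_mul_pow q y
  have hvy : Commute v y := hy ▸ (Nat.cast_commute n v).symm.mul_right (Commute.refl v)
  obtain ⟨R, hRy, hR⟩ := hP (n : S) (Nat.cast_commute n y) v hy (Nat.cast_commute n v)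
  have hd : ((q : S) + y * P) * y = 0 := by
    rw [← hsum]
    have := geom_sum_mul (1 + y) q
    rw [add_sub_cancel_left, ← hu, huq, sub_self] at this
    rw [← hu]
    exact this
  -- multiples of `n` act invertibly on `y`
  have hvPy : Commute y (v * P) := (hvy.symm).mul_right hPy.symm
  by_cases hqn : q ∣ n
  · obtain ⟨m, rfl⟩ := hqn
    have h1 : (1 + (m : S) * (v * P)) * y = 0 := by
      refine hS.torsionFree q _ hq.pos ?_
      calc (q : S) * ((1 + (m : S) * (v * P)) * y) = ((q : S) + ((q * m : ℕ) : S) * (v * P)) * y := by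
            rw [← mul_assoc, mul_add, _root_.mul_one, ← mul_assoc (q : S), ← Nat.cast_mul]
        _ = 0 := by rw [← mul_assoc ((q * m : ℕ) : S), ← hy]; exact hd
    rcases (show m = 1 ∨ 2 ≤ m by rcases m with _ | _ | m <;> simp_all) with rfl | hm
    · rw [Nat.cast_one, _root_.one_mul] at h1
      have hq3 : 3 ≤ q := by
        rcases Nat.lt_or_ge q 3 with h | h
        · have := hq.two_le
          exact absurd ⟨by omega, by omega⟩ hnq
        · exact h
      obtain ⟨c, hc⟩ : q ∣ q.choose 2 := hq.dvd_choose_self (by norm_num) (by omega)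
      have e : (q : S) * (v * ((c : S) + R)) = v * P := by
        rw [← mul_assoc, (Nat.cast_commute q v).eq, mul_assoc, mul_add, ← Nat.cast_mul, ← hc, hR, Nat.mul_one]
      have h2 : (q : S) * ((-(v * ((c : S) + R))) * y) = y := by
        rw [← mul_assoc, mul_neg, e, neg_mul]
        rw [add_mul, _root_.one_mul, add_eq_zero_iff_eq_neg] at h1
        exact h1.symm
      rw [hu, hS.noDiv q y (-(v * ((c : S) + R))) hq.two_le
        ((hvy.symm.mul_right ((Nat.cast_commute c y).symm.add_right hRy.symm)).neg_right) h2, add_zero]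
    · have h2 : (m : S) * ((-(v * P)) * y) = y := by
        rw [add_mul, _root_.one_mul, add_eq_zero_iff_eq_neg] at h1
        rw [← mul_assoc, mul_neg, neg_mul]
        exact h1.symm
      rw [hu, hS.noDiv m y _ hm hvPy.neg_right h2, add_zero]
  · obtain ⟨a, b, hab⟩ : ∃ a b : ℤ, a * (n : ℤ) + b * (q : ℤ) = 1 :=
      (Nat.isCoprime_iff_coprime.2 ((Nat.coprime_comm).1 ((Nat.Prime.coprime_iff_not_dvd hq).2 hqn)))
    have hqy : (q : S) * y = -((n : S) * (v * P * y)) := by
      rw [eq_neg_iff_add_eq_zero, ← mul_assoc, ← mul_assoc, ← hy, ← add_mul]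
      exact hd
    have h2 : (n : S) * (((a : S) + (b : S) * (-(v * P))) * y) = y := by
      calc (n : S) * (((a : S) + (b : S) * (-(v * P))) * y)
          = (a : S) * ((n : S) * y) + (b : S) * (-((n : S) * (v * P * y))) := by
            rw [add_mul, mul_add, ← mul_assoc, (Nat.cast_commute n (a : S)).eq, mul_assoc]
            congr 1
            rw [mul_assoc (b : S), ← mul_assoc (n : S), (Nat.cast_commute n (b : S)).eq, mul_assoc, neg_mul, mul_neg]
        _ = (((a * n + b * q : ℤ)) : S) * y := by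
            rw [← hqy]; push_cast; rw [add_mul, mul_assoc, mul_assoc]
        _ = y := by rw [hab, Int.cast_one, _root_.one_mul]
    rw [hu, hS.noDiv n y _ hn ((Int.cast_commute a y).symm.add_right
      ((Int.cast_commute b y).symm.mul_right hvPy.neg_right)) h2, add_zero]

/-- An element of order four congruent to one modulo two has order two. -/
theorem sq_eq_one_of_pow_four (hS : NoDiv S) (u v : S) (hu : u = 1 + (2 : S) * v) (h4 : u ^ 4 = 1) : u ^ 2 = 1 := by
  set d := u ^ 2 - 1 with hd
  set t := v + v * v with ht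
  have hvd : Commute v d := by
    rw [hd, hu]
    exact (((Commute.one_right v).add_right ((Commute.ofNat_right v 2).mul_right (Commute.refl v))).pow_right 2).sub_right
      (Commute.one_right v)
  have h1 : (2 : S) * ((1 + (2 : S) * t) * d) = (u ^ 2 + 1) * d := by
    rw [← mul_assoc]
    congr 1
    rw [ht, hu, sq]
    noncomm_ring
  have h2 : (u ^ 2 + 1) * d = 0 := by
    rw [hd, add_mul, _root_.one_mul, mul_sub, _root_.mul_one, ← pow_add, h4]; abel
  rw [h2] at h1
  have h3 := hS.torsionFree 2 _ two_pos (by exact_mod_cast h1)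
  have h4' : (2 : S) * ((-t) * d) = d := by
    rw [add_mul, _root_.one_mul, add_eq_zero_iff_eq_neg] at h3
    rw [neg_mul, mul_neg, ← mul_assoc]
    exact h3.symm
  have := hS.noDiv 2 d (-t) le_rfl ((hvd.add_left (hvd.mul_left hvd)).neg_left.symm) (by exact_mod_cast h4')
  rwa [hd, sub_eq_zero] at this

/-- **Serre's lemma.** -/
theorem serre_lemma (hS : NoDiv S) {n N : ℕ} (hn : 2 ≤ n) (hN : 0 < N) (u v : S) (hu : u = 1 + (n : S) * v)
    (huN : u ^ N = 1) : (3 ≤ n → u = 1) ∧ (n = 2 → u * u = 1) := by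
  have hpow : ∀ m : ℕ, ∃ w : S, u ^ m = 1 + (n : S) * w := fun m => by
    induction m with
    | zero => exact ⟨0, by rw [mul_zero, add_zero, pow_zero]⟩
    | succ m ih =>
      obtain ⟨w, hw⟩ := ih
      refine ⟨w + v + w * ((n : S) * v), ?_⟩
      rw [pow_succ, hw, hu, mul_add (n : S), mul_add (n : S), add_mul, _root_.one_mul, mul_add ((n : S) * w),
        _root_.mul_one, mul_assoc (n : S) w]
      abel
  set o := orderOf u with ho
  have ho0 : 0 < o := (isOfFinOrder_iff_pow_eq_one.2 ⟨N, hN, huN⟩).orderOf_pos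
  have hprime : ∀ q : ℕ, q.Prime → q ∣ o → n = 2 ∧ q = 2 := fun q hq hqo => by
    by_contra hnq
    obtain ⟨w, hw⟩ := hpow (o / q)
    have h1 : u ^ (o / q) = 1 := eq_one_of_prime_order hS hn hq hnq (u ^ (o / q)) w hw
      (by rw [← pow_mul, Nat.div_mul_cancel hqo, ho, pow_orderOf_eq_one])
    have h2 := Nat.le_of_dvd (Nat.div_pos (Nat.le_of_dvd ho0 hqo) hq.pos) (orderOf_dvd_of_pow_eq_one h1)
    exact absurd h2 (not_le.2 (Nat.div_lt_self ho0 hq.one_lt))
  refine ⟨fun h3 => orderOf_eq_one_iff.1 ?_, fun h2 => ?_⟩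
  · by_contra hne
    obtain ⟨q, hq, hqo⟩ := Nat.exists_prime_and_dvd hne
    have := (hprime q hq hqo).1
    omega
  · subst h2
    rw [← sq]
    refine orderOf_dvd_iff_pow_eq_one.1 ?_
    rw [← ho]
    obtain ⟨k, hk⟩ : ∃ k, o = 2 ^ k := by
      refine ⟨o.primeFactorsList.length, ?_⟩
      exact (Nat.eq_prime_pow_of_unique_prime_dvd ho0.ne' fun {q} hq hqo => (hprime q hq hqo).2)
    rcases k with _ | _ | k
    · simp [hk]
    · simp [hk]
    · exfalso
      obtain ⟨w, hw⟩ := hpow (2 ^ k)
      have h1 := sq_eq_one_of_pow_four hS (u ^ 2 ^ k) w (by exact_mod_cast hw)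
        (by rw [← pow_mul, show (2 : ℕ) ^ k * 4 = 2 ^ (k + 2) by ring, ← hk, ho, pow_orderOf_eq_one])
      rw [← pow_mul] at h1
      have h2 := Nat.le_of_dvd (by positivity) (orderOf_dvd_of_pow_eq_one h1)
      rw [← ho, hk, show 2 ^ k * 2 = 2 ^ (k + 1) by ring] at h2
      exact absurd h2 (not_le.2 (Nat.pow_lt_pow_right (by norm_num) (by omega)))

end Groth.Agent.H28SemiAb
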