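import Groth.Agent.H28SemiAb.Descend
import Groth.Agent.H28SemiAb.Serre

/-!
# The endomorphism ring of a group without additive subgroups
-/

set_option autoImplicit false
set_option linter.style.haveILetI false
set_option backward.isDefEq.respectTransparency false
set_option backward.isDefEq.respectTransparency.types false
set_option maxHeartbeats 1000000
set_option synthInstance.maxHeartbeats 200000
universe u

open CategoryTheory CategoryTheory.Limits MonoidalCategory CartesianMonoidalCategory MonObj AlgebraicGeometry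
open Groth.Agent

noncomputable section

namespace Groth.Agent.H28SemiAb

variable {k : Type u} [Field k] (G : Over (Spec (CommRingCat.of k))) [GrpObj G] [IsCommMonObj G]

attribute [local instance] Functor.grpObjObj

theorem isMonHom_of_points (f : G ⟶ G)
    (h : ∀ (T : Over (Spec (CommRingCat.of k))) (a b : T ⟶ G), (a * b) ≫ f = (a ≫ f) * (b ≫ f)) : IsMonHom f := by
  refine WittGrp.isMonHom_of_comp_mul f ?_ h
  have := h (𝟙_ _) 1 1
  rw [_root_.mul_one] at this
  exact left_eq_mul.mp this

theorem isMonHom_mul' (f g : G ⟶ G) [IsMonHom f] [IsMonHom g] : IsMonHom (f * g) :=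
  isMonHom_of_points G _ fun T a b => by
    rw [MonObj.comp_mul, MonObj.comp_mul, MonObj.comp_mul, MonObj.mul_comp, MonObj.mul_comp, _root_.mul_mul_mul_comm]

theorem isMonHom_one' : IsMonHom (1 : G ⟶ G) :=
  isMonHom_of_points G _ fun T a b => by rw [MonObj.comp_one, MonObj.comp_one, MonObj.comp_one, _root_.one_mul]

/-- Post-composition with a homomorphism. -/
def post (f : G ⟶ G) [IsMonHom f] : AddMonoid.End (Additive (G ⟶ G)) :=
  AddMonoidHom.mk' (fun x => Additive.ofMul (x.toMul ≫ f)) fun a b => by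
    exact congrArg Additive.ofMul (MonObj.mul_comp a.toMul b.toMul f)

theorem post_apply (f : G ⟶ G) [IsMonHom f] (x : G ⟶ G) :
    post G f (Additive.ofMul x) = Additive.ofMul (x ≫ f) := rfl

theorem post_injective {f g : G ⟶ G} [IsMonHom f] [IsMonHom g] (h : post G f = post G g) : f = g := by
  have := congrArg (fun e : AddMonoid.End (Additive (G ⟶ G)) => (e (Additive.ofMul (𝟙 G))).toMul) h
  simpa [post_apply] using this

theorem post_congr {f g : G ⟶ G} [IsMonHom f] [IsMonHom g] (h : f = g) : post G f = post G g := by subst h; rfl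

theorem post_id : post G (𝟙 G) = 1 :=
  AddMonoidHom.ext fun x => congrArg Additive.ofMul (Category.comp_id x.toMul)

theorem post_one : haveI := isMonHom_one' G; post G (1 : G ⟶ G) = 0 :=
  haveI := isMonHom_one' G
  AddMonoidHom.ext fun x => congrArg Additive.ofMul (MonObj.comp_one x.toMul)

theorem post_mul (f g : G ⟶ G) [IsMonHom f] [IsMonHom g] :
    haveI := isMonHom_mul' G f g; post G (f * g) = post G f + post G g :=
  haveI := isMonHom_mul' G f g
  AddMonoidHom.ext fun x => congrArg Additive.ofMul (MonObj.comp_mul x.toMul f g)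

theorem post_comp (f g : G ⟶ G) [IsMonHom f] [IsMonHom g] : post G (f ≫ g) = post G g * post G f :=
  AddMonoidHom.ext fun x => congrArg Additive.ofMul (Category.assoc x.toMul f g).symm

theorem post_inv (f : G ⟶ G) [IsMonHom f] : post G f⁻¹ = -post G f :=
  AddMonoidHom.ext fun x => congrArg Additive.ofMul (GrpObj.comp_inv x.toMul f)

/-- The ring of endomorphisms. -/
def endo : Subring (AddMonoid.End (Additive (G ⟶ G))) where
  carrier := {e | ∃ (f : G ⟶ G) (h : IsMonHom f), haveI := h; post G f = e}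
  mul_mem' := by
    rintro _ _ ⟨f, hf, rfl⟩ ⟨g, hg, rfl⟩
    haveI := hf; haveI := hg
    exact ⟨g ≫ f, inferInstance, post_comp G g f⟩
  one_mem' := ⟨𝟙 G, inferInstance, post_id G⟩
  add_mem' := by
    rintro _ _ ⟨f, hf, rfl⟩ ⟨g, hg, rfl⟩
    haveI := hf; haveI := hg
    exact ⟨f * g, isMonHom_mul' G f g, post_mul G f g⟩
  zero_mem' := ⟨1, isMonHom_one' G, post_one G⟩
  neg_mem' := by
    rintro _ ⟨f, hf, rfl⟩
    haveI := hf
    exact ⟨f⁻¹, inferInstance, post_inv G f⟩

/-- A homomorphism as an element of the ring of endomorphisms. -/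
def toEndo (f : G ⟶ G) [IsMonHom f] : endo G := ⟨post G f, f, inferInstance, rfl⟩

theorem exists_toEndo (x : endo G) : ∃ (f : G ⟶ G) (h : IsMonHom f), haveI := h; toEndo G f = x := by
  obtain ⟨f, hf, he⟩ := x.2
  haveI := hf
  exact ⟨f, hf, Subtype.ext he⟩

theorem toEndo_injective {f g : G ⟶ G} [IsMonHom f] [IsMonHom g] (h : toEndo G f = toEndo G g) : f = g :=
  post_injective G (congrArg Subtype.val h)

theorem toEndo_congr {f g : G ⟶ G} [IsMonHom f] [IsMonHom g] (h : f = g) : toEndo G f = toEndo G g := by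
  subst h; rfl

theorem toEndo_comp (f g : G ⟶ G) [IsMonHom f] [IsMonHom g] : toEndo G (f ≫ g) = toEndo G g * toEndo G f :=
  Subtype.ext (post_comp G f g)

theorem toEndo_mul (f g : G ⟶ G) [IsMonHom f] [IsMonHom g] :
    haveI := isMonHom_mul' G f g; toEndo G (f * g) = toEndo G f + toEndo G g :=
  Subtype.ext (post_mul G f g)

theorem toEndo_id : toEndo G (𝟙 G) = 1 := Subtype.ext (post_id G)

theorem toEndo_one : haveI := isMonHom_one' G; toEndo G (1 : G ⟶ G) = 0 := Subtype.ext (post_one G)

theorem toEndo_inv (f : G ⟶ G) [IsMonHom f] : toEndo G f⁻¹ = -toEndo G f := Subtype.ext (post_inv G f)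

theorem isMonHom_pow_hom (f : G ⟶ G) [IsMonHom f] (n : ℕ) : IsMonHom (f ^ n) := by
  induction n with
  | zero => rw [pow_zero]; exact isMonHom_one' G
  | succ n ih => rw [pow_succ]; exact isMonHom_mul' G _ _

theorem toEndo_pow (f : G ⟶ G) [IsMonHom f] (n : ℕ) :
    haveI := isMonHom_pow_hom G f n; toEndo G (f ^ n) = (n : endo G) * toEndo G f := by
  induction n with
  | zero =>
    haveI := isMonHom_pow_hom G f 0
    haveI := isMonHom_one' G
    rw [toEndo_congr G (pow_zero f), toEndo_one, Nat.cast_zero, zero_mul]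
  | succ n ih =>
    haveI := isMonHom_pow_hom G f (n + 1)
    haveI := isMonHom_pow_hom G f n
    haveI := isMonHom_mul' G (f ^ n) f
    rw [toEndo_congr G (pow_succ f n), toEndo_mul, ih, Nat.cast_succ, add_mul, _root_.one_mul]

variable [Smooth G.hom] [ConnectedSpace G.left] {Ω : Type u} [Field Ω] [IsAlgClosed Ω]
  (g : Spec (CommRingCat.of Ω) ⟶ Spec (CommRingCat.of k))

theorem noDiv_endo (hG : NoGa ((Over.pullback g).obj G)) : NoDiv (endo G) := by
  refine ⟨fun n x hn hx => ?_, fun n d W hn hc h => ?_⟩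
  · obtain ⟨f, hf, rfl⟩ := exists_toEndo G x
    haveI := hf
    haveI := isMonHom_pow_hom G f n
    haveI := isMonHom_one' G
    rw [← toEndo_one]
    refine toEndo_congr G (eq_one_of_pow_eq_one g G hG hn f (toEndo_injective G ?_))
    rw [toEndo_pow, toEndo_one, hx]
  · obtain ⟨f, hf, rfl⟩ := exists_toEndo G d
    obtain ⟨w, hw, rfl⟩ := exists_toEndo G W
    haveI := hf; haveI := hw
    haveI := isMonHom_one' G
    haveI := isMonHom_pow (G := G) n
    rw [← toEndo_one]
    refine toEndo_congr G (eq_one_of_div g G hG hn f w (toEndo_injective G ?_) (toEndo_injective G ?_))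
    · rw [toEndo_comp, toEndo_comp]; exact hc.eq.symm
    · rw [toEndo_comp, toEndo_comp, toEndo_pow, toEndo_id, _root_.mul_one,
        ← (Nat.cast_commute n (toEndo G w)).eq, _root_.mul_assoc]
      exact h

/-- An endomorphism agreeing with `f` on the `n`-torsion differs from it by a multiple of `n`. -/
theorem exists_sub_eq_mul (hG : NoGa ((Over.pullback g).obj G)) {n : ℕ} (hn : 0 < n) (a b : G ⟶ G) [IsMonHom a]
    [IsMonHom b] (h : ∀ (T : Over (Spec (CommRingCat.of k))) (x : T ⟶ G), x ^ n = 1 → x ≫ a = x ≫ b) :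
    ∃ (v : G ⟶ G) (_ : IsMonHom v), toEndo G a = toEndo G b + (n : endo G) * toEndo G v := by
  haveI := isMonHom_mul' G a b⁻¹
  obtain ⟨v, hv, hvn, -⟩ := exists_div g G hG hn (a * b⁻¹) fun T x hx => by
    rw [MonObj.comp_mul, GrpObj.comp_inv, h T x hx, mul_inv_cancel]
  haveI := hv
  haveI := isMonHom_pow_hom G v n
  refine ⟨v, hv, ?_⟩
  rw [← toEndo_pow, toEndo_congr G hvn, toEndo_mul, toEndo_inv]
  abel

theorem toEndo_aut_pow (u : Aut G) [IsMonHom u.hom] (m : ℕ) :
    ∃ h : IsMonHom (u ^ m).hom, haveI := h; toEndo G (u ^ m).hom = toEndo G u.hom ^ m := by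
  induction m with
  | zero =>
    refine ⟨by rw [pow_zero]; exact inferInstanceAs (IsMonHom (𝟙 G)), ?_⟩
    have e : (u ^ 0).hom = 𝟙 G := by rw [pow_zero]; rfl
    haveI : IsMonHom (u ^ 0).hom := by rw [e]; infer_instance
    rw [toEndo_congr G e, toEndo_id, pow_zero]
  | succ m ih =>
    obtain ⟨h, e⟩ := ih
    haveI := h
    have e1 : (u ^ (m + 1)).hom = u.hom ≫ (u ^ m).hom := by rw [pow_succ]; rfl
    refine ⟨by rw [e1]; infer_instance, ?_⟩
    haveI : IsMonHom (u ^ (m + 1)).hom := by rw [e1]; infer_instance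
    rw [toEndo_congr G e1, toEndo_comp, e, pow_succ]

end Groth.Agent.H28SemiAb
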