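import Groth.Agent.H19Chev.UnipotentIsogeny
import Groth.Agent.H19Chev.SolvableIsogeny
import Groth.Agent.H19Chev.IdComp
import Groth.Agent.H20DimOne.GaQuot
import Groth.Agent.H21Rank1.GaProps
import Groth.Agent.H27Witt.Ext
import Groth.Agent.H21Hom.ExtensionMult
import Groth.Agent.H20Red.Points
import Groth.Agent.S12178
import Groth.Agent.S12181
import Groth.Agent.S3271
import Groth.Prelude.Def_SGA7IX
import Mathlib

/-!
# A unipotent commutative group contains the additive group
-/

set_option autoImplicit false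
set_option linter.style.haveILetI false
set_option backward.isDefEq.respectTransparency false
set_option backward.isDefEq.respectTransparency.types false
set_option maxHeartbeats 1000000
set_option synthInstance.maxHeartbeats 200000
universe u

open CategoryTheory CategoryTheory.Limits MonoidalCategory CartesianMonoidalCategory MonObj AlgebraicGeometry
open Groth.Agent Groth.Agent.H27Witt WithConv
open scoped TensorProduct

noncomputable section

namespace Groth.Agent.H28SemiAb

attribute [local instance 2000] Hom.group Hom.monoid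

variable {k : Type u} [Field k] [IsAlgClosed k]

local notation "Pts" X => 𝟙_ (Over (Spec (CommRingCat.of k))) ⟶ X
local notation "Ga" => Red.Ga (Spec (CommRingCat.of k))

theorem ga_facts : Smooth (Ga).hom ∧ IsAffine (Ga).left ∧ ConnectedSpace (Ga).left ∧
    QuasiCompact (Ga).hom := by
  obtain ⟨e, -⟩ := H20DimOne.exists_isoLine (k := k)
  haveI : IsIso e.inv.left := inferInstanceAs (IsIso ((Over.forget _).map e.inv))
  haveI : IsAffine (H20Mu.Pl k).left := inferInstanceAs (IsAffine (Spec _))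
  haveI haff : IsAffine (Ga).left := IsAffine.of_isIso e.inv.left
  haveI : IrreducibleSpace (H20Mu.Pl k).left :=
    inferInstanceAs (IrreducibleSpace (PrimeSpectrum (Polynomial k)))
  have hc : ConnectedSpace (Ga).left :=
    (Scheme.Hom.homeomorph e.inv.left).symm.surjective.connectedSpace
      (Scheme.Hom.homeomorph e.inv.left).symm.continuous
  refine ⟨H21Rank1.smooth_Ga, haff, hc, ?_⟩
  haveI : IsAffineHom (Ga).hom := inferInstance
  infer_instance

/-- In characteristic zero. -/
theorem exists_ga_hom_zero [CharZero k] (U : Over (Spec (CommRingCat.of k))) [GrpObj U] [IsCommMonObj U]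
    [Smooth U.hom] [ConnectedSpace ↥U.left] [IsAffine U.left] (hU : Red.HasNoSubtorus k U)
    (hne : ∃ x : Pts U, x ≠ 1) :
    ∃ f : Ga ⟶ U, IsMonHom f ∧ {x : Pts Ga | x ≫ f = 1}.Finite := by
  obtain ⟨B, _, _, hft, hdom, hB, ⟨es⟩⟩ := H20Torus.exists_isUnipotent_model U hU
  let eU : U ≅ CoactBr.sp k B := (Grp.forget _).mapIso es
  haveI : IsMonHom eU.hom := es.hom.hom.isMonHom_hom
  haveI : IsMonHom eU.inv := es.inv.hom.isMonHom_hom
  haveI : Coalgebra.IsCocomm k B := H21Hom.isCocomm_of_comm_points fun D _ _ a b => by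
    refine (Spec.mapMulEquiv (R := k) (S := B) (T := D)).injective ?_
    rw [map_mul, map_mul]
    refine (cancel_mono eU.inv).1 ?_
    rw [MonObj.mul_comp, MonObj.mul_comp, mul_comm]
  obtain ⟨n, xs, hind, hgen, hprim⟩ := S3271.result k B hB
  rcases Nat.eq_zero_or_pos n with hn | hn
  · subst hn
    obtain ⟨x, hx⟩ := hne
    refine absurd ?_ hx
    rw [← cancel_mono eU.hom, ← cancel_epi H19Chev.UnipotentIsogeny.unitIso.inv]
    obtain ⟨φ, hφ⟩ := H19Chev.UnipotentIsogeny.exists_pt_eq' (H19Chev.UnipotentIsogeny.unitIso.inv ≫ x ≫ eU.hom)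
    obtain ⟨ψ, hψ⟩ := H19Chev.UnipotentIsogeny.exists_pt_eq'
      (H19Chev.UnipotentIsogeny.unitIso.inv ≫ (1 : Pts U) ≫ eU.hom)
    rw [← hφ, ← hψ, AlgHom.ext_of_adjoin_eq_top hgen (φ₁ := φ) (φ₂ := ψ)]
    rintro _ ⟨i, rfl⟩
    exact i.elim0
  let e : MvPolynomial (Fin n) k ≃ₐ[k] B := AlgEquiv.ofBijective (MvPolynomial.aeval xs)
    ⟨hind, by rw [← AlgHom.range_eq_top, ← Algebra.adjoin_range_eq_range_aeval, hgen]⟩
  let φ0 : B →ₐ[k] Polynomial k :=
    (MvPolynomial.aeval fun i : Fin n => if (i : ℕ) = 0 then Polynomial.X else 0).comp e.symm.toAlgHom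
  have hφ0 : ∀ i, φ0 (xs i) = if (i : ℕ) = 0 then Polynomial.X else 0 := fun i => by
    have : e.symm (xs i) = MvPolynomial.X i := by
      rw [AlgEquiv.symm_apply_eq]
      exact (MvPolynomial.aeval_X xs i).symm
    show MvPolynomial.aeval _ (e.symm (xs i)) = _
    rw [this, MvPolynomial.aeval_X]
  obtain ⟨eG, heG⟩ := H20DimOne.exists_isoLine (k := k)
  let f : Ga ⟶ U := eG.inv ≫ CoactBr.pt φ0 ≫ eU.inv
  -- points of the line
  let co : (Pts Ga) → k := fun x => Fn.ev x (H20DimOne.gf (𝟙 Ga))
  have hco_inj : Function.Injective co := by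
    intro x y hxy
    haveI := (ga_facts (k := k)).2.1
    rw [← cancel_mono eG.inv]
    haveI : IsAffine (H20Mu.Pl k).left := inferInstanceAs (IsAffine (Spec _))
    have key : ∀ z : Pts Ga, Fn.ev (z ≫ eG.inv) (H20Mu.plEquiv (k := k) Polynomial.X) = co z := fun z => by
      show _ = Fn.ev z (H20DimOne.gf (𝟙 Ga))
      rw [← Fn.ev_pull]
      congr 1
      have := congrArg (Fn.pull eG.inv) heG
      rw [Fn.pull_pull, eG.inv_hom_id, Fn.pull_id] at this
      exact this.symm
    rw [H20Mu.plPt_unique (key x), H20Mu.plPt_unique (key y), hxy]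
  have hco_mul : ∀ x y : Pts Ga, co (x * y) = co x + co y := fun x y => by
    show Fn.ev (x * y) _ = Fn.ev x _ + Fn.ev y _
    rw [show ∀ z : Pts Ga, Fn.ev z (H20DimOne.gf (𝟙 Ga)) = Fn.gammaAlg (H20DimOne.gf z) from fun z => by
      conv_rhs => rw [← Category.comp_id z, H20DimOne.gf_comp]
      rfl]
    rw [show ∀ z : Pts Ga, Fn.ev z (H20DimOne.gf (𝟙 Ga)) = Fn.gammaAlg (H20DimOne.gf z) from fun z => by
      conv_rhs => rw [← Category.comp_id z, H20DimOne.gf_comp]
      rfl]
    rw [show ∀ z : Pts Ga, Fn.ev z (H20DimOne.gf (𝟙 Ga)) = Fn.gammaAlg (H20DimOne.gf z) from fun z => by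
      conv_rhs => rw [← Category.comp_id z, H20DimOne.gf_comp]
      rfl]
    rw [H20DimOne.gf_mul, map_add]
  let β : (Pts Ga) → WithConv (B →ₐ[k] k) := fun x => toConv ((Polynomial.aeval (co x)).comp φ0)
  have hpl : ∀ x : Pts Ga, H19Chev.UnipotentIsogeny.unitIso.inv ≫ x ≫ f ≫ eU.hom = CoactBr.pt (β x).ofConv := fun x => by
    show H19Chev.UnipotentIsogeny.unitIso.inv ≫ x ≫ (eG.inv ≫ CoactBr.pt φ0 ≫ eU.inv) ≫ eU.hom = _
    simp only [Category.assoc, eU.inv_hom_id, Category.comp_id]
    rw [show (β x).ofConv = (Polynomial.aeval (co x)).comp φ0 from rfl, CoactBr.pt_comp φ0 (Polynomial.aeval (co x))]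
    obtain ⟨ψ, hψ⟩ := H19Chev.UnipotentIsogeny.exists_pt_eq' (H19Chev.UnipotentIsogeny.unitIso.inv ≫ x ≫ eG.inv)
    have hψx : ψ Polynomial.X = co x := by
      have h1 := congrArg (fun p => Fn.gammaAlg (Fn.pull (H19Chev.UnipotentIsogeny.unitIso.hom ≫ p)
        (H20Mu.plEquiv (k := k) Polynomial.X))) hψ
      simp only [Iso.hom_inv_id_assoc] at h1
      have h2 : Fn.gammaAlg (Fn.pull (x ≫ eG.inv) (H20Mu.plEquiv (k := k) Polynomial.X)) = co x := by
        show _ = Fn.ev x (H20DimOne.gf (𝟙 Ga))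
        have := congrArg (Fn.pull eG.inv) heG
        rw [Fn.pull_pull, eG.inv_hom_id, Fn.pull_id] at this
        rw [← Fn.pull_pull]
        exact congrArg (Fn.ev x) this.symm
      rw [h2] at h1
      rw [← h1]
      show _ = gamma k ((H19Chev.UnipotentIsogeny.unitIso.hom ≫ CoactBr.pt ψ).left.appTop
        ((Scheme.ΓSpecIso (CommRingCat.of (Polynomial k))).inv Polynomial.X))
      rw [show (H19Chev.UnipotentIsogeny.unitIso.hom ≫ CoactBr.pt ψ).left = Spec.map (CommRingCat.ofHom ψ.toRingHom) from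
        Category.id_comp _]
      refine Eq.trans ?_ (congrArg (gamma k) (congr($(Scheme.ΓSpecIso_inv_naturality
        (CommRingCat.ofHom ψ.toRingHom)).hom Polynomial.X)))
      exact (congr($((Scheme.ΓSpecIso (CommRingCat.of k)).inv_hom_id).hom (ψ Polynomial.X))).symm
    rw [← reassoc_of% hψ, Polynomial.algHom_ext (f := ψ) (g := Polynomial.aeval (co x)) (by simpa using hψx)]
  have hβ : ∀ x y : Pts Ga, β (x * y) = β x * β y := fun x y => by
    refine WithConv.ofConv_injective (AlgHom.ext_of_adjoin_eq_top hgen ?_)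
    rintro _ ⟨i, rfl⟩
    have hcx : ∀ z : Pts Ga, ∀ b : B, (β z).ofConv b = Polynomial.aeval (co z) (φ0 b) := fun _ _ => rfl
    rw [AlgHom.convMul_apply, hprim, map_add, Algebra.TensorProduct.lift_tmul, Algebra.TensorProduct.lift_tmul,
      map_one, map_one, _root_.mul_one, _root_.one_mul, hcx, hcx, hcx, hco_mul, hφ0]
    split_ifs <;> simp
  obtain ⟨hs, haff, hc, hqc⟩ := ga_facts (k := k)
  haveI := hs
  haveI : IsSeparated U.hom := H19Grp.PointsDense.isSeparated_grp _
  haveI hfm : IsMonHom f := H27Witt.isMonHom_of_pts f fun x y => by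
    rw [← cancel_mono eU.hom, ← cancel_epi H19Chev.UnipotentIsogeny.unitIso.inv]
    rw [MonObj.mul_comp (x ≫ f) (y ≫ f) eU.hom, Category.assoc, hpl, hβ, H20Red.pt_convMul, ← hpl, ← hpl, MonObj.comp_mul, Category.assoc,
      Category.assoc]
    all_goals simp only [f, Category.assoc]
  refine ⟨f, hfm, (Set.finite_singleton (1 : Pts Ga)).subset fun x hx => hco_inj ?_⟩
  have h1 : β x = β 1 := by
    refine WithConv.ofConv_injective (CoactBr.pt_injective ?_)
    rw [← hpl, ← hpl, ← Category.assoc x, show x ≫ f = 1 from hx, ← Category.assoc (1 : Pts Ga), MonObj.one_comp, MonObj.one_comp f, MonObj.one_comp eU.hom]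
  have h2 := congrArg (fun b : WithConv (B →ₐ[k] k) => b.ofConv (xs ⟨0, hn⟩)) h1
  simp only [β, WithConv.ofConv_toConv, AlgHom.comp_apply, hφ0, if_pos, Polynomial.aeval_X] at h2
  exact h2

/-- In positive characteristic. -/
theorem exists_ga_hom_pos (p : ℕ) [Fact p.Prime] [CharP k p]
    (U : Over (Spec (CommRingCat.of k))) [GrpObj U] [IsCommMonObj U]
    [Smooth U.hom] [ConnectedSpace ↥U.left] [IsAffine U.left] (hU : Red.HasNoSubtorus k U)
    (hne : ∃ x : Pts U, x ≠ 1) :
    ∃ f : Ga ⟶ U, IsMonHom f ∧ {x : Pts Ga | x ≫ f = 1}.Finite := by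
  classical
  obtain ⟨r, nn, P, hP, proj, hproj, ⟨hlim⟩, -, g, hg, hgi⟩ := S12178.result p k U hU
  haveI := hg
  let N : Over (Spec (CommRingCat.of k)) := Limits.pullback g η[U]
  let i : N ⟶ P := pullback.fst g η[U]
  have hN : AlgGrp.IsKernel i g := by
    show IsPullback i (toUnit N) g η[U]
    rw [← toUnit_unique (pullback.snd g η[U]) (toUnit N)]
    exact IsPullback.of_hasPullback g η[U]
  haveI : IsFinite N.hom := hgi.2 N i hN
  have hker : {x : Pts P | x ≫ g = 1}.Finite := by
    haveI : Finite (Pts N) := by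
      haveI : Finite N.left := by
        haveI : Finite (Spec (CommRingCat.of k)) := inferInstance
        exact Set.finite_univ_iff.1 ((N.hom.finite_preimage_singleton (IsLocalRing.closedPoint k)).subset
          fun z _ => Subsingleton.elim (α := PrimeSpectrum k) _ _)
      exact Finite.of_injective (fun x : Pts N => x.left (IsLocalRing.closedPoint k)) fun x y h =>
        Over.OverMorphism.ext (H19Grp.section_ext (Over.w x) (Over.w y) h)
    refine (Set.finite_range fun z : Pts N => z ≫ i).subset fun x hx => ?_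
    refine ⟨hN.lift x (toUnit _) ?_, hN.lift_fst _ _ _⟩
    rw [show x ≫ g = 1 from hx, Hom.one_def]
  have hext : ∀ {T : Over (Spec (CommRingCat.of k))} (a b : T ⟶ P), (∀ j, a ≫ proj j = b ≫ proj j) → a = b :=
    fun a b h => hlim.hom_ext fun j => h j.as
  obtain ⟨j0, hj0⟩ : ∃ j, 1 ≤ nn j := by
    by_contra hall
    push Not at hall
    obtain ⟨x, hx⟩ := hne
    haveI : Surjective g.left := hgi.1
    have hid : 𝟙 P = 1 := hext _ _ fun j => by
      refine WittGrp.pts_injective p _ (TruncatedWittVector.ext fun l => ?_)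
      exact absurd l.2 (by have := hall j; omega)
    have hg1 : g = toUnit P ≫ (1 : Pts U) := by
      rw [← Category.id_comp g, hid, MonObj.one_comp, MonObj.comp_one]
    refine hx (Over.OverMorphism.ext (H19Grp.section_ext (Over.w x) (Over.w (1 : Pts U)) ?_))
    obtain ⟨z, hz⟩ := g.left.surjective (x.left (IsLocalRing.closedPoint k))
    refine hz.symm.trans ?_
    rw [hg1, Over.comp_left, Scheme.Hom.comp_apply]
    exact congrArg (1 : Pts U).left (Subsingleton.elim (α := PrimeSpectrum k) _ _)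
  obtain ⟨e, he, -⟩ := S12181.result p (Spec (CommRingCat.of k))
  haveI := he
  let v : Ga ⟶ WittGrp.W p (nn j0) (Spec (CommRingCat.of k)) :=
    e.inv ≫ WittGrp.V p (Spec (CommRingCat.of k)) hj0
  let c : ∀ j : Fin r, Ga ⟶ WittGrp.W p (nn j) (Spec (CommRingCat.of k)) :=
    Function.update (fun j => 1) j0 v
  haveI hcm : ∀ j, IsMonHom (c j) := fun j => by
    rcases eq_or_ne j j0 with hjj | hne'
    · subst hjj
      simp only [c, Function.update_self]
      infer_instance
    · simp only [c, Function.update_of_ne hne']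
      exact WittGrp.isMonHom_of_comp_mul _ (MonObj.comp_one _) fun T a b => by
        rw [MonObj.comp_one, MonObj.comp_one, MonObj.comp_one, _root_.one_mul]
  let iP : Ga ⟶ P := hlim.lift (Fan.mk _ c)
  have hiP : ∀ j, iP ≫ proj j = c j := fun j => hlim.fac _ ⟨j⟩
  haveI : IsMonHom iP := WittGrp.isMonHom_of_comp_mul iP
    (hext _ _ fun j => by
      haveI := hproj j
      rw [Category.assoc, hiP, MonObj.one_comp, MonObj.one_comp])
    fun T a b => hext _ _ fun j => by
      haveI := hproj j
      rw [Category.assoc, hiP, MonObj.mul_comp, MonObj.mul_comp, Category.assoc, Category.assoc, hiP]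
  refine ⟨iP ≫ g, inferInstance, ?_⟩
  refine Set.Finite.subset (hker.preimage (f := fun x : Pts Ga => x ≫ iP) ?_) fun x hx => ?_
  · intro x _ y _ hxy
    have h1 := congrArg (fun z => z ≫ proj j0) hxy
    simp only [Category.assoc, hiP, c, Function.update_self, v] at h1
    rw [← cancel_mono e.inv]
    refine WittGrp.pts_injective p _ ?_
    have h2 := congrArg (fun z => WittGrp.pts p _ (Additive.ofMul z)) h1
    simp only [← Category.assoc, WittGrp.pts_V] at h2
    refine TruncatedWittVector.ext fun i => ?_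
    have h3 := congrArg (TruncatedWittVector.coeff (⟨(i : ℕ) + (nn j0 - 1), by omega⟩ : Fin (nn j0))) h2
    rw [WittGrp.coeff_shift, WittGrp.coeff_shift, dif_pos (by simp), dif_pos (by simp)] at h3
    convert h3 using 3 <;> simp
  · show (x ≫ iP) ≫ g = 1
    rw [Category.assoc]
    exact hx

/-- **A nontrivial smooth connected commutative affine group without subtorus contains the additive group.** -/
theorem exists_ga_subgroup (U : Over (Spec (CommRingCat.of k))) [GrpObj U] [IsCommMonObj U]
    [Smooth U.hom] [ConnectedSpace ↥U.left] [IsAffine U.left] (hU : Red.HasNoSubtorus k U)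
    (hne : ∃ x : Pts U, x ≠ 1) :
    ∃ j : Ga ⟶ U, IsMonHom j ∧ IsClosedImmersion j.left := by
  obtain ⟨f, hf, hfin⟩ : ∃ f : Ga ⟶ U, IsMonHom f ∧ {x : Pts Ga | x ≫ f = 1}.Finite := by
    obtain ⟨p, hp⟩ := CharP.exists k
    rcases CharP.char_is_prime_or_zero k p with hpp | hp0
    · haveI := Fact.mk hpp
      exact exists_ga_hom_pos p U hU hne
    · subst hp0
      haveI : CharZero k := CharP.charP_to_charZero k
      exact exists_ga_hom_zero U hU hne
  haveI := hf
  obtain ⟨hs, haff, hc, hqc⟩ := ga_facts (k := k)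
  haveI := hs; haveI := haff; haveI := hc; haveI := hqc
  haveI : IsAffineHom U.hom := inferInstance
  haveI : IsFinite f.left := H19Chev.isFinite_of_finite_ker f hfin
  haveI : IsClosedImmersion (𝟙 Ga : Ga ⟶ Ga).left := inferInstanceAs (IsClosedImmersion (𝟙 (Ga).left))
  obtain ⟨V, gV, j, hj, hjc, hVs, hVc, q, hq, hqf, hqs, -, hVa⟩ :=
    H19Chev.SolvableIsogeny.exists_image_isogeny f (𝟙 Ga)
  haveI := hj; haveI := hjc; haveI := hVs; haveI := hq; haveI := hqf; haveI := hqs
  haveI : IsAffine V.left := hVa haff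
  obtain ⟨i⟩ := H20DimOne.nonempty_iso_Ga V q
  let e : V ≅ Ga := (Grp.forget _).mapIso i
  haveI : IsMonHom e.inv := i.inv.hom.isMonHom_hom
  haveI : IsIso e.inv.left := inferInstanceAs (IsIso ((Over.forget _).map e.inv))
  exact ⟨e.inv ≫ j, inferInstance, by rw [Over.comp_left]; infer_instance⟩

end Groth.Agent.H28SemiAb
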