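import Groth.Agent.H28SemiAb.Endo

/-!
# Idempotents from automorphisms congruent to one on torsion
-/

set_option autoImplicit false
set_option linter.style.haveILetI false
set_option backward.isDefEq.respectTransparency false
set_option backward.isDefEq.respectTransparency.types false
set_option maxHeartbeats 1000000
set_option synthInstance.maxHeartbeats 200000
universe u

open CategoryTheory CategoryTheory.Limits MonoidalCategory CartesianMonoidalCategory MonObj AlgebraicGeometry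
open Groth.Agent

noncomputable section

namespace Groth.Agent.H28SemiAb

section Ring

variable {S : Type*} [Ring S]

theorem idem_two (h2 : ∀ x : S, (2 : S) * x = 0 → x = 0) (U v : S) (hU : U * U = 1) (hv : U = 1 + (2 : S) * v) :
    (1 + v) * (1 + v) = 1 + v ∧ (1 + v) + (1 + v) = 1 + U := by
  refine ⟨sub_eq_zero.1 (h2 _ (h2 _ ?_)), ?_⟩
  · have : (2 : S) * ((2 : S) * ((1 + v) * (1 + v) - (1 + v))) = U * U - 1 := by
      rw [hv]; noncomm_ring
    rw [this, hU, sub_self]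
  · rw [hv]; noncomm_ring

theorem double_congr (h2 : ∀ x : S, (2 : S) * x = 0 → x = 0) (U v : S) (hU : U * U = 1)
    (hv : (U - 1) * (U - 1) = (4 : S) * v) : U = 1 + (2 : S) * (-v) := by
  refine sub_eq_zero.1 (h2 _ ?_)
  have : (2 : S) * (U - (1 + (2 : S) * (-v))) = (4 : S) * v - (U - 1) * (U - 1) + (U * U - 1) := by noncomm_ring
  rw [this, hU, hv, sub_self, sub_self, add_zero]

theorem idem_three (h3 : ∀ x : S, (3 : S) * x = 0 → x = 0) (U v : S) (hU : U * U * U = 1)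
    (hv : (U - 1) * (U - 1) = (3 : S) * v) :
    (v + U) * (v + U) = v + U ∧ (v + U) + (v + U) + (v + U) = 1 + U + U * U := by
  have h : (3 : S) * (v + U) = 1 + U + U * U := by
    rw [mul_add, ← hv]; noncomm_ring
  refine ⟨sub_eq_zero.1 (h3 _ (h3 _ ?_)), by rw [← h]; noncomm_ring⟩
  have h4 : (1 + U + U * U) * U = 1 + U + U * U := by
    rw [show (1 + U + U * U) * U = U + U * U + U * U * U by noncomm_ring, hU]; abel
  have : (3 : S) * ((3 : S) * ((v + U) * (v + U) - (v + U))) =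
      ((3 : S) * (v + U)) * ((3 : S) * (v + U)) - (3 : S) * ((3 : S) * (v + U)) := by noncomm_ring
  rw [this, h]
  have : (1 + U + U * U) * (1 + U + U * U) = (1 + U + U * U) + (1 + U + U * U) * U + (1 + U + U * U) * U * U := by
    noncomm_ring
  rw [this, h4, h4]; noncomm_ring

end Ring

variable {k : Type u} [Field k] (G : Over (Spec (CommRingCat.of k))) [GrpObj G] [IsCommMonObj G]
  [Smooth G.hom] [ConnectedSpace G.left] {Ω : Type u} [Field Ω] [IsAlgClosed Ω]
  (g : Spec (CommRingCat.of Ω) ⟶ Spec (CommRingCat.of k))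

theorem exists_idem (hG : NoGa ((Over.pullback g).obj G)) (u : Aut G) [IsMonHom u.hom]
    (h : (u * u = 1 ∧ ∀ (T : Over (Spec (CommRingCat.of k))) (x : T ⟶ G), x ^ 2 = 1 → x ≫ u.hom = x) ∨
      (u * u = 1 ∧ ∀ (T : Over (Spec (CommRingCat.of k))) (x : T ⟶ G), x ^ 4 = 1 →
        (((x ≫ u.hom) * x⁻¹) ≫ u.hom) * ((x ≫ u.hom) * x⁻¹)⁻¹ = 1) ∨
      (u * u * u = 1 ∧ ∀ (T : Over (Spec (CommRingCat.of k))) (x : T ⟶ G), x ^ 3 = 1 →
        (((x ≫ u.hom) * x⁻¹) ≫ u.hom) * ((x ≫ u.hom) * x⁻¹)⁻¹ = 1)) :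
    ∃ (p : G ⟶ G) (_ : IsMonHom p), p ≫ p = p ∧
      (u * u = 1 → p * p = 𝟙 G * u.hom) ∧ (u * u * u = 1 → p * p * p = 𝟙 G * u.hom * (u * u).hom) := by
  have hS := noDiv_endo G g hG
  set U := toEndo G u.hom with hUdef
  have h2 : ∀ x : endo G, (2 : endo G) * x = 0 → x = 0 := fun x hx => hS.torsionFree 2 x two_pos (by exact_mod_cast hx)
  have h3 : ∀ x : endo G, (3 : endo G) * x = 0 → x = 0 := fun x hx =>
    hS.torsionFree 3 x three_pos (by exact_mod_cast hx)
  haveI hm2 : IsMonHom (u * u).hom := inferInstanceAs (IsMonHom (u.hom ≫ u.hom))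
  have hpow : ∀ (a : Aut G) [IsMonHom a.hom], a = 1 → toEndo G a.hom = 1 := fun a _ ha => by
    rw [← toEndo_id G]
    exact toEndo_congr G (by rw [ha]; rfl)
  have hU2 : u * u = 1 → U * U = 1 := fun hh => by
    rw [← hpow _ hh]; exact (toEndo_comp G u.hom u.hom).symm
  have hU3 : u * u * u = 1 → U * U * U = 1 := fun hh => by
    haveI : IsMonHom (u * u * u).hom := inferInstanceAs (IsMonHom (u.hom ≫ (u.hom ≫ u.hom)))
    rw [← hpow _ hh, hUdef, ← toEndo_comp, ← toEndo_comp]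
    exact toEndo_congr G rfl
  haveI := isMonHom_mul' G u.hom (𝟙 G)⁻¹
  have hD : ∀ m : ℕ, 0 < m → (∀ (T : Over (Spec (CommRingCat.of k))) (x : T ⟶ G), x ^ m = 1 →
        (((x ≫ u.hom) * x⁻¹) ≫ u.hom) * ((x ≫ u.hom) * x⁻¹)⁻¹ = 1) →
      ∃ v : endo G, (U - 1) * (U - 1) = (m : endo G) * v := fun m hm hx => by
    haveI := isMonHom_one' G
    obtain ⟨v, hv, he⟩ := exists_sub_eq_mul G g hG hm ((u.hom * (𝟙 G)⁻¹) ≫ (u.hom * (𝟙 G)⁻¹)) (1 : G ⟶ G)
      fun T x hxm => by
        rw [MonObj.comp_one, ← Category.assoc, MonObj.comp_mul x, GrpObj.comp_inv, Category.comp_id, MonObj.comp_mul,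
          GrpObj.comp_inv, Category.comp_id, hx T x hxm]
    haveI := hv
    refine ⟨toEndo G v, ?_⟩
    rw [toEndo_comp, toEndo_mul, toEndo_inv, toEndo_id, toEndo_one, zero_add, ← sub_eq_add_neg] at he
    exact he
  obtain ⟨P, hP, hP2, hP3⟩ : ∃ P : endo G, P * P = P ∧ (U * U = 1 → P + P = 1 + U) ∧
      (U * U * U = 1 → P + P + P = 1 + U + U * U) := by
    rcases h with ⟨hu, hx⟩ | ⟨hu, hx⟩ | ⟨hu, hx⟩
    · obtain ⟨v, hv, he⟩ := exists_sub_eq_mul G g hG two_pos u.hom (𝟙 G) fun T x hxm => by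
        rw [Category.comp_id]; exact hx T x hxm
      haveI := hv
      rw [toEndo_id, Nat.cast_ofNat, ← hUdef] at he
      obtain ⟨i1, i2⟩ := idem_two h2 U (toEndo G v) (hU2 hu) he
      refine ⟨_, i1, fun _ => i2, fun h333 => ?_⟩
      have hU1 : U = 1 := by rw [hU2 hu, _root_.one_mul] at h333; exact h333
      have : 1 + toEndo G v = 1 := sub_eq_zero.1 (h2 _ (by rw [two_mul]; rw [hU1] at i2; linear_combination (norm := abel) i2))
      rw [this, hU1]; simp
    · obtain ⟨v, hv⟩ := hD 4 (by norm_num) hx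
      rw [Nat.cast_ofNat] at hv
      obtain ⟨i1, i2⟩ := idem_two h2 U (-v) (hU2 hu) (double_congr h2 U v (hU2 hu) hv)
      refine ⟨_, i1, fun _ => i2, fun h333 => ?_⟩
      have hU1 : U = 1 := by rw [hU2 hu, _root_.one_mul] at h333; exact h333
      have : 1 + -v = 1 := sub_eq_zero.1 (h2 _ (by rw [two_mul]; rw [hU1] at i2; linear_combination (norm := abel) i2))
      rw [this, hU1]; simp
    · obtain ⟨v, hv⟩ := hD 3 (by norm_num) hx
      rw [Nat.cast_ofNat] at hv
      obtain ⟨i1, i2⟩ := idem_three h3 U v (hU3 hu) hv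
      refine ⟨_, i1, fun h22 => ?_, fun _ => i2⟩
      have hU1 : U = 1 := by have := hU3 hu; rw [h22, _root_.one_mul] at this; exact this
      rw [hU1, _root_.one_mul] at i2
      have : v + U = 1 := by
        rw [hU1]
        refine sub_eq_zero.1 (h3 _ ?_)
        rw [show (3 : endo G) * (v + 1 - 1) = (v + 1 + (v + 1) + (v + 1)) - (1 + 1 + 1) by noncomm_ring, i2, sub_self]
      rw [this, hU1]
  obtain ⟨p, hp, rfl⟩ := exists_toEndo G P
  haveI := hp
  haveI := isMonHom_mul' G p p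
  haveI := isMonHom_mul' G (p * p) p
  haveI := isMonHom_mul' G (𝟙 G) u.hom
  haveI := isMonHom_mul' G (𝟙 G * u.hom) (u * u).hom
  refine ⟨p, hp, toEndo_injective G (by rw [toEndo_comp, hP]), fun hh => toEndo_injective G ?_,
    fun hh => toEndo_injective G ?_⟩
  · rw [toEndo_mul, toEndo_mul, toEndo_id, hP2 (hU2 hh)]
  · rw [toEndo_mul, toEndo_mul, toEndo_mul, toEndo_mul, toEndo_id, hP3 (hU3 hh),
      toEndo_congr G (show (u * u).hom = u.hom ≫ u.hom from rfl), toEndo_comp]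

/-- An idempotent splits a commutative group. -/
theorem split_idem (p : G ⟶ G) [IsMonHom p] (hp : p ≫ p = p) :
    ∃ (G₁ G₂ : Over (Spec (CommRingCat.of k))) (_ : GrpObj G₁) (_ : GrpObj G₂) (i₁ : G₁ ⟶ G) (i₂ : G₂ ⟶ G),
      IsMonHom i₁ ∧ IsMonHom i₂ ∧ IsClosedImmersion i₁.left ∧ IsClosedImmersion i₂.left ∧
      AlgGrp.IsKernel i₁ (𝟙 G * p⁻¹) ∧ AlgGrp.IsKernel i₂ p ∧ ConnectedSpace ↥G₁.left ∧ ConnectedSpace ↥G₂.left ∧
      IsIso ((i₁ ⊗ₘ i₂) ≫ μ[G]) := by
  let q : G ⟶ G := 𝟙 G * p⁻¹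
  haveI : IsMonHom q := isMonHom_mul' G _ _
  obtain ⟨g1, hi1⟩ := H19Grp.KernelGrp.exists_grpObj q
  obtain ⟨g2, hi2⟩ := H19Grp.KernelGrp.exists_grpObj p
  let G₁ := H19Grp.KernelGrp.ker q
  let G₂ := H19Grp.KernelGrp.ker p
  let i₁ : G₁ ⟶ G := H19Grp.KernelGrp.incl q
  let i₂ : G₂ ⟶ G := H19Grp.KernelGrp.incl p
  haveI : IsMonHom i₁ := hi1
  haveI : IsMonHom i₂ := hi2
  have k1 := H19Grp.KernelGrp.isKernel q
  have k2 := H19Grp.KernelGrp.isKernel p
  haveI : IsSeparated G.hom := H19Grp.AffineQuotient.isSeparated_of_grp G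
  haveI := H19Grp.AffineQuotient.isClosedImmersion_unit G
  haveI : IsClosedImmersion i₁.left := MorphismProperty.pullback_fst (P := @IsClosedImmersion) _ _ inferInstance
  haveI : IsClosedImmersion i₂.left := MorphismProperty.pullback_fst (P := @IsClosedImmersion) _ _ inferInstance
  haveI : Mono i₁ := Over.mono_of_mono_left _
  haveI : Mono i₂ := Over.mono_of_mono_left _
  obtain ⟨l₁, hl₁⟩ := H19Grp.kernel_lift k1 p (by
    rw [MonObj.comp_mul, GrpObj.comp_inv, Category.comp_id, hp, mul_inv_cancel])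
  obtain ⟨l₂, hl₂⟩ := H19Grp.kernel_lift k2 q (by
    simp only [q]
    rw [MonObj.mul_comp, GrpObj.inv_comp, Category.id_comp, hp, mul_inv_cancel])
  have e1 : i₁ ≫ p = i₁ := by
    have := H19Grp.kernel_comp_eq_one k1
    simp only [q] at this
    rw [MonObj.comp_mul, GrpObj.comp_inv, Category.comp_id] at this
    exact (eq_of_mul_inv_eq_one this).symm
  have e2 : i₂ ≫ p = 1 := H19Grp.kernel_comp_eq_one k2
  have r1 : i₁ ≫ l₁ = 𝟙 G₁ := by rw [← cancel_mono i₁, Category.assoc, Category.id_comp, hl₁, e1]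
  have r2 : i₂ ≫ l₂ = 𝟙 G₂ := by
    rw [← cancel_mono i₂, Category.assoc, Category.id_comp, hl₂, MonObj.comp_mul, GrpObj.comp_inv, Category.comp_id,
      e2, inv_one, _root_.mul_one]
  have hsurj : ∀ {X : Over (Spec (CommRingCat.of k))} (i : X ⟶ G) (l : G ⟶ X), i ≫ l = 𝟙 X →
      ConnectedSpace ↥X.left := fun {X} i l h => by
    have hs : Function.Surjective l.left := fun x => ⟨i.left x, by
      rw [← Scheme.Hom.comp_apply, ← Over.comp_left, h]; rfl⟩
    exact hs.connectedSpace l.left.continuous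
  refine ⟨G₁, G₂, g1, g2, i₁, i₂, inferInstance, inferInstance, inferInstance, inferInstance, k1, k2,
    hsurj i₁ l₁ r1, hsurj i₂ l₂ r2, ⟨lift l₁ l₂, ?_, ?_⟩⟩
  · have e : (i₁ ⊗ₘ i₂) ≫ μ[G] = (fst _ _ ≫ i₁) * (snd _ _ ≫ i₂) := by rw [Hom.mul_def, lift_fst_comp_snd_comp]
    refine CartesianMonoidalCategory.hom_ext _ _ ?_ ?_
    · rw [← cancel_mono i₁, Category.assoc, Category.assoc, lift_fst_assoc, hl₁, e, MonObj.mul_comp, Category.assoc, e1,
        Category.assoc, e2, MonObj.comp_one, _root_.mul_one, Category.id_comp]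
    · rw [← cancel_mono i₂, Category.assoc, Category.assoc, lift_snd_assoc, hl₂, e, MonObj.comp_mul, GrpObj.comp_inv,
        Category.comp_id, MonObj.mul_comp, Category.assoc, e1, Category.assoc, e2, MonObj.comp_one, _root_.mul_one,
        Category.id_comp, mul_comm, ← _root_.mul_assoc, inv_mul_cancel, _root_.one_mul]
  · rw [← Category.assoc, lift_map, hl₁, hl₂, ← Hom.mul_def, mul_comm, _root_.mul_assoc, inv_mul_cancel, _root_.mul_one]

end Groth.Agent.H28SemiAb
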