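import Groth.Agent.H19Grp.HomFlatOpen
import Groth.Agent.H19Grp.IdentityComponent
import Groth.Agent.H19Grp.Dimension
import Groth.Agent.H19Grp.Neutral
import Groth.Agent.H19Grp.QuasiFiniteHom
import Groth.Agent.H19Grp.ArtinHom
import Groth.Agent.H19Grp.AffineQuotient
import Groth.Agent.H25Grp.Isogeny
import Groth.Agent.H25Euler.Kill
import Groth.Agent.H28Neron.SpecialFibreImage
import Groth.Agent.H12AlgSp.RelDim
import Groth.Agent.H19Grp.KernelGrp
import Groth.Agent.H19Chev.IdComp
import Groth.Prelude.Def_SGA7IX

/-!
# Quasi-finite homomorphisms to smooth groups of no larger dimension are flat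
-/

set_option autoImplicit false
set_option linter.style.haveILetI false
set_option backward.isDefEq.respectTransparency false
set_option backward.isDefEq.respectTransparency.types false
set_option maxHeartbeats 1000000
set_option synthInstance.maxHeartbeats 200000
universe u

open CategoryTheory CategoryTheory.Limits MonoidalCategory CartesianMonoidalCategory MonObj AlgebraicGeometry
open Groth.Agent

noncomputable section

namespace Groth.Agent.H28SemiAb

attribute [local instance] Functor.grpObjObj

variable {k : Type u} [Field k]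

theorem isFinite_of_lqf' {G H : Over (Spec (CommRingCat.of k))} [GrpObj G] [GrpObj H]
    [LocallyOfFiniteType G.hom] [QuasiCompact G.hom] [LocallyOfFiniteType H.hom] (f : G ⟶ H) [IsMonHom f]
    [LocallyQuasiFinite f.left] : IsFinite f.left := by
  haveI : IsSeparated H.hom := H19Grp.AffineQuotient.isSeparated_of_grp H
  haveI : QuasiCompact (f.left ≫ H.hom) := by rw [Over.w f]; infer_instance
  haveI : QuasiCompact f.left := QuasiCompact.of_comp _ H.hom
  exact H19Grp.QuasiFiniteHom.isFinite_of_lqf f

/-- An isogeny does not increase the dimension. -/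
theorem dim_le_of_surjective_finite_ker {G H : Over (Spec (CommRingCat.of k))} [GrpObj G] [GrpObj H]
    [LocallyOfFiniteType G.hom] [QuasiCompact G.hom] [LocallyOfFiniteType H.hom] (f : G ⟶ H) [IsMonHom f]
    (hf : SGA7.IsIsogenyOver f) : topologicalKrullDim H.left ≤ topologicalKrullDim G.left := by
  haveI : IsSeparated H.hom := H19Grp.AffineQuotient.isSeparated_of_grp H
  haveI : LocallyOfFiniteType (f.left ≫ H.hom) := by rw [Over.w f]; infer_instance
  haveI : LocallyOfFiniteType f.left := locallyOfFiniteType_of_comp f.left H.hom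
  haveI : QuasiCompact (f.left ≫ H.hom) := by rw [Over.w f]; infer_instance
  haveI : QuasiCompact f.left := QuasiCompact.of_comp _ H.hom
  have h2 : IsFinite (H19Grp.KernelGrp.ker f).hom := hf.2 _ _ (H19Grp.KernelGrp.isKernel f)
  haveI := H19Grp.ArtinHom.lqf_of_kernel f
    (show LocallyQuasiFinite (H19Grp.KernelGrp.ker f).hom by infer_instance)
  haveI := H19Grp.QuasiFiniteHom.isFinite_of_lqf f
  haveI := hf.1
  exact H17.topologicalKrullDim_le_of_specializingMap f.left f.left.isClosedMap.specializingMap f.left.surjective

/-- A quasi-finite homomorphism to a smooth group of no larger dimension is flat. -/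
theorem flat_of_lqf_of_dim_le {G H : Over (Spec (CommRingCat.of k))} [GrpObj G] [GrpObj H]
    [LocallyOfFiniteType G.hom] [QuasiCompact G.hom] [Smooth H.hom] (f : G ⟶ H) [IsMonHom f]
    [LocallyQuasiFinite f.left] (hd : topologicalKrullDim H.left ≤ topologicalKrullDim G.left) :
    Flat f.left := by
  haveI : IsReduced H.left := H19Chev.isReduced_smooth
  haveI : LocallyOfFiniteType H.hom := inferInstance
  haveI := isFinite_of_lqf' f
  let iG := H19Grp.idCompι G
  let iH := H19Grp.idCompι H
  refine H19Grp.flat_of_image_component f ((H28Neron.SpecialFibreImage.image_subset f).antisymm ?_)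
  obtain ⟨g, hg⟩ := H19Grp.idComp_lift H (iG ≫ f) (by
    rintro _ ⟨z, rfl⟩
    exact H28Neron.SpecialFibreImage.image_subset f
      ⟨iG.left z, (H19Grp.range_idCompι G).subset ⟨z, rfl⟩, (Scheme.Hom.comp_apply iG.left f.left z).symm⟩)
  have hgl : g.left ≫ iH.left = iG.left ≫ f.left := congrArg (·.left) hg
  haveI : IsClosedImmersion iG.left := inferInstanceAs (IsClosedImmersion (H19Grp.idCompι G).left)
  haveI : IsClosedImmersion iH.left := inferInstanceAs (IsClosedImmersion (H19Grp.idCompι H).left)
  haveI : IsFinite (g.left ≫ iH.left) := by rw [hgl]; infer_instance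
  haveI : IsFinite g.left := IsFinite.of_comp g.left iH.left
  haveI : LocallyOfFiniteType (H19Grp.idComp H).hom := by rw [← Over.w iH]; infer_instance
  have irr : ∀ {A B : Scheme.{u}} (j : A ⟶ B) (Z : Set B), IsClosedImmersion j → Set.range j = Z →
      IsIrreducible Z → IrreducibleSpace A ∧ topologicalKrullDim A = topologicalKrullDim Z := by
    intro A B j Z hj hZ hirr
    haveI : IrreducibleSpace Z := Subtype.irreducibleSpace hirr
    let e : A ≃ₜ Z := j.isClosedEmbedding.isEmbedding.toHomeomorph.trans (Homeomorph.setCongr hZ)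
    exact ⟨e.irreducibleSpace_iff.2 inferInstance, IsHomeomorph.topologicalKrullDim_eq _ e.isHomeomorph⟩
  obtain ⟨hiG, hdG⟩ := irr iG.left _ inferInstance (H19Grp.range_idCompι_ept G) (H19Grp.isIrreducible_component G)
  obtain ⟨hiH, hdH⟩ := irr iH.left _ inferInstance (H19Grp.range_idCompι_ept H) (H19Grp.isIrreducible_component H)
  haveI := hiG; haveI := hiH
  have hdimG : topologicalKrullDim (H19Grp.idComp G).left = topologicalKrullDim G.left := by
    rw [hdG]
    refine H19Grp.topologicalKrullDim_component (H19Grp.grpToGrpd G) (Iso.refl _) _ ?_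
    exact (H19Grp.connectedComponent_eq_irreducibleComponent (H19Grp.grpToGrpd G) (Iso.refl _) _).symm ▸
      irreducibleComponent_mem_irreducibleComponents _
  obtain ⟨d, hd'⟩ := H25Grp.exists_nat_dim (H19Grp.idComp H).hom
  have hle : (d : WithBot ℕ∞) ≤ topologicalKrullDim (H19Grp.idComp G).left := by
    rw [hdimG, ← hd']
    exact (iH.left.isEmbedding.isInducing.topologicalKrullDim_le).trans hd
  have hclosed : IsClosed (Set.range g.left) := g.left.isClosedMap.isClosed_range
  have huniv : Set.range g.left = Set.univ := by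
    by_contra hne
    haveI : QuasiSober (Set.range g.left) := hclosed.isClosedEmbedding_subtypeVal.quasiSober
    have hlt := H25Euler.dim_lt_of_forall_ne _ hclosed (fun y _ => ⟨genericPoint (H19Grp.idComp H).left,
      genericPoint_specializes y, fun h =>
        hne (Set.eq_univ_of_forall fun z => (genericPoint_specializes z).mem_closed hclosed h)⟩)
      (by rw [hd']; exact_mod_cast Nat.lt_succ_self d)
    refine absurd hlt (not_lt.2 (hle.trans ?_))
    exact H17.topologicalKrullDim_le_of_noSpecializationsInFibres (Set.rangeFactorization g.left)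
      (g.left.continuous.subtype_mk _) fun x y hxy e => H12AlgSp.eq_of_specializes_of_lqf g.left hxy (congrArg Subtype.val e)
  intro y hy
  obtain ⟨z, rfl⟩ := (H19Grp.range_idCompι_ept H).ge hy
  obtain ⟨x, rfl⟩ := huniv.ge (Set.mem_univ z)
  exact ⟨iG.left x, (H19Grp.range_idCompι_ept G).le ⟨x, rfl⟩, by
    rw [← Scheme.Hom.comp_apply, ← hgl, Scheme.Hom.comp_apply]⟩

/-- The fibre dimension of a group at the unit is the dimension of the fibre. -/
theorem fibreDimAt_unit {S : Scheme.{u}} (G : Over S) [GrpObj G] [LocallyOfFiniteType G.hom] (y : S) :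
    FlatMor.fibreDimAt G.hom (η[G].left y) =
      topologicalKrullDim (Red.bc (S.fromSpecResidueField y) G).left := by
  let Gy : Over (Spec (S.residueField y)) := Red.bc (S.fromSpecResidueField y) G
  letI : GrpObj Gy := Functor.grpObjObj
  haveI : LocallyOfFiniteType Gy.hom := inferInstanceAs (LocallyOfFiniteType (pullback.snd G.hom _))
  let c : ↥(Spec (S.residueField y)) := IsLocalRing.closedPoint (S.residueField y)
  let z : G.hom.fiber y := η[Gy].left c
  have hz : G.hom.fiberι y z = η[G].left y := by
    have h := congrArg (fun g => g.base c) (H19Grp.bc_one (S.fromSpecResidueField y) G)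
    exact h.trans (congrArg η[G].left (Scheme.fromSpecResidueField_apply y c))
  rw [← hz, H8Props.FieldDim.fibreDimAt_eq_localDim G.hom z]
  exact H19Grp.localDim_eq (H19Grp.grpToGrpd Gy) (Iso.refl _) z

/-- The fibre dimension at the unit of a smooth group is the same at comparable points. -/
theorem fibreDimAt_unit_eq {S : Scheme.{u}} (H : Over S) [GrpObj H] [Smooth H.hom] {s t : S} (hts : t ⤳ s) :
    FlatMor.fibreDimAt H.hom (η[H].left t) = FlatMor.fibreDimAt H.hom (η[H].left s) := by
  obtain ⟨W, n, hW, hn⟩ := H12AlgSp.exists_nhd_smooth_fibreDimAt H.hom (η[H].left s)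
  rw [hn _ hW, hn _ ((hts.map η[H].left.continuous).mem_open W.2 hW)]

end Groth.Agent.H28SemiAb
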