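import Groth.Agent.H21EtPt.PowLift
import Groth.Agent.H13AlgSp.FibreCount
import Groth.Agent.H19Grp.KernelGrp
import Groth.Agent.H21Diag.Chart
import Groth.Agent.H21Diag.Loci
import Groth.Prelude.Def_SGA7IX

/-!
# Torsion in kernels propagates to generizations
-/

set_option autoImplicit false
set_option linter.style.haveILetI false
set_option backward.isDefEq.respectTransparency false
set_option backward.isDefEq.respectTransparency.types false
set_option maxHeartbeats 1000000
set_option synthInstance.maxHeartbeats 200000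
universe u

open CategoryTheory CategoryTheory.Limits MonoidalCategory CartesianMonoidalCategory MonObj AlgebraicGeometry
open Groth.Agent

noncomputable section

namespace Groth.Agent.H28SemiAb

attribute [local instance] Functor.grpObjObj
attribute [local instance 2000] Hom.group Hom.monoid

variable {S : Scheme.{u}}

/-- The part of the `n`-torsion where `[n]` is etale. -/
theorem exists_etalePart (G : Over S) [GrpObj G] (n : ℕ) :
    ∃ (X : Over S) (i : X ⟶ G), Etale X.hom ∧ IsSeparated i.left ∧ Mono i ∧ i ^ n = 1 ∧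
      ∀ (T : Over S) (a : T ⟶ G), a ^ n = 1 → (∀ z, a.left z ∈ H21EtPt.powLocus G n) → ∃ b : T ⟶ X, b ≫ i = a := by
  let U := H21EtPt.powLocus G n
  let f : G ⟶ G := (𝟙 G) ^ n
  let fG : U.toScheme ⟶ G.left := U.ι ≫ f.left
  let e : S ⟶ G.left := η[G].left
  have he : e ≫ G.hom = 𝟙 S := Over.w η[G]
  let pr : pullback fG e ⟶ S := pullback.snd fG e
  haveI : Etale fG := H21EtPt.etale_powLocus (G := G) n
  have hw : (pullback.fst fG e ≫ U.ι) ≫ G.hom = pr := by
    rw [Category.assoc, ← Over.w f, ← Category.assoc U.ι, ← Category.assoc,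
      show pullback.fst fG e ≫ U.ι ≫ f.left = pr ≫ e from pullback.condition, Category.assoc, he, Category.comp_id]
  let i : Over.mk pr ⟶ G := Over.homMk (pullback.fst fG e ≫ U.ι) hw
  haveI : IsSplitMono e := ⟨⟨⟨G.hom, he⟩⟩⟩
  haveI : Mono (pullback.fst fG e) := inferInstance
  haveI : Mono i.left := inferInstanceAs (Mono (pullback.fst fG e ≫ U.ι))
  have hin : i ^ n = 1 := by
    rw [show i ^ n = i ≫ f by rw [MonObj.comp_pow, Category.comp_id]]
    refine Over.OverMorphism.ext ?_
    rw [H21Diag.one_left, Over.comp_left]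
    exact (Category.assoc _ _ _).trans pullback.condition
  refine ⟨Over.mk pr, i, MorphismProperty.pullback_snd (P := @Etale) _ _ inferInstance, inferInstance,
    Over.mono_of_mono_left i, hin, fun T a ha haU => ?_⟩
  let l : T.left ⟶ U.toScheme := IsOpenImmersion.lift U.ι a.left (by
    rw [Scheme.Opens.range_ι]; rintro _ ⟨z, rfl⟩; exact haU z)
  have hl : l ≫ U.ι = a.left := IsOpenImmersion.lift_fac _ _ _
  have hc : l ≫ fG = T.hom ≫ e := by
    have h := congrArg (·.left) ha
    rw [show a ^ n = a ≫ f by rw [MonObj.comp_pow, Category.comp_id]] at h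
    simp only [H21Diag.one_left] at h
    rw [← Category.assoc, hl]
    exact h
  refine ⟨Over.homMk (pullback.lift l T.hom hc) (pullback.lift_snd _ _ _), Over.OverMorphism.ext ?_⟩
  show pullback.lift l T.hom hc ≫ pullback.fst fG e ≫ U.ι = a.left
  rw [pullback.lift_fst_assoc, hl]

theorem natCast_residueField_ne {K : Type u} [Field K] {n : ℕ} (hn : (n : K) ≠ 0)
    (z : Spec (CommRingCat.of K)) : (n : (Spec (CommRingCat.of K)).residueField z) ≠ 0 := fun h => by
  refine hn ((Spec.preimage ((Spec (CommRingCat.of K)).fromSpecResidueField z)).hom.injective ?_)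
  rw [map_natCast, map_zero]
  exact h

theorem central_comm {G : Over S} [GrpObj G] [IsCommMonObj G] {X : Over S} (x : X ⟶ G) : H21EtPt.Central x :=
  fun _ _ _ => mul_comm _ _

theorem central_one {G : Over S} [GrpObj G] {X : Over S} : H21EtPt.Central (1 : X ⟶ G) :=
  fun _ _ _ => by rw [MonObj.comp_one, _root_.one_mul, _root_.mul_one]

/-- Distinct torsion points of invertible order in a kernel propagate to generizations. -/
theorem exists_pts_of_specializes {G H : Over S} [GrpObj G] [IsCommMonObj G] [Flat G.hom]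
    [LocallyOfFinitePresentation G.hom] [IsSeparated G.hom] [GrpObj H] [Flat H.hom]
    [LocallyOfFinitePresentation H.hom] (u : G ⟶ H) [IsMonHom u] (n m : ℕ) {s t : S} (hts : t ⤳ s)
    {K : Type u} [Field K] (p : Spec (CommRingCat.of K) ⟶ S) (hp : p (IsLocalRing.closedPoint K) = s)
    (hn : (n : K) ≠ 0) (e : Fin m → (Over.mk p ⟶ G)) (he : Function.Injective e)
    (hen : ∀ i, e i ^ n = 1) (heu : ∀ i, e i ≫ u = 1) :
    ∃ (L : Type u) (_ : Field L) (q : Spec (CommRingCat.of L) ⟶ S) (e' : Fin m → (Over.mk q ⟶ G)),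
      q (IsLocalRing.closedPoint L) = t ∧ Function.Injective e' ∧ ∀ i, e' i ≫ u = 1 := by
  obtain ⟨X, i, hX, his, hi, hin, hXl⟩ := exists_etalePart G n
  obtain ⟨Y, j, hY, -, hj, -, hYl⟩ := exists_etalePart H n
  haveI := hX; haveI := his; haveI := hi; haveI := hY; haveI := hj
  let PH := H21EtPt.powLocus H n
  let W : X.left.Opens := (i ≫ u).left ⁻¹ᵁ PH ⊓ (1 : X ⟶ H).left ⁻¹ᵁ PH
  let XW : Over S := Over.mk (W.ι ≫ X.hom)
  let w : XW ⟶ X := Over.homMk W.ι rfl
  obtain ⟨a, ha⟩ := hYl XW (w ≫ i ≫ u) (by rw [← MonObj.comp_pow, ← MonObj.pow_comp, hin, MonObj.one_comp, MonObj.comp_one])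
    (fun z => z.2.1)
  obtain ⟨b, hb⟩ := hYl XW (w ≫ 1) (by rw [MonObj.comp_one, one_pow]) (fun z => z.2.2)
  let Δ := pullback.diagonal Y.hom
  let c : W.toScheme ⟶ pullback Y.hom Y.hom := pullback.lift a.left b.left ((Over.w a).trans (Over.w b).symm)
  let O : W.toScheme.Opens := c ⁻¹ᵁ Δ.opensRange
  let XO : Over S := Over.mk (O.ι ≫ XW.hom)
  let o : XO ⟶ XW := Over.homMk O.ι rfl
  have hoab : o ≫ a = o ≫ b := by
    let l := IsOpenImmersion.lift Δ (O.ι ≫ c) (by rintro _ ⟨z, rfl⟩; exact z.2)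
    have hl : l ≫ Δ = O.ι ≫ c := IsOpenImmersion.lift_fac _ _ _
    have h1 := congrArg (· ≫ pullback.fst Y.hom Y.hom) hl
    have h2 := congrArg (· ≫ pullback.snd Y.hom Y.hom) hl
    simp only [Category.assoc, Δ, c, pullback.diagonal_fst, pullback.diagonal_snd, pullback.lift_fst,
      pullback.lift_snd, Category.comp_id] at h1 h2
    exact Over.OverMorphism.ext (h1.symm.trans h2)
  let v : XO ⟶ G := o ≫ w ≫ i
  haveI : Mono v.left := by
    haveI : Mono i.left := (Over.forget S).map_mono i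
    exact inferInstanceAs (Mono (O.ι ≫ W.ι ≫ i.left))
  haveI : Mono v := Over.mono_of_mono_left v
  have hvu : v ≫ u = 1 := by
    simp only [v, Category.assoc]
    rw [← ha, ← Category.assoc, hoab, Category.assoc, hb, MonObj.comp_one, MonObj.comp_one]
  haveI : Etale XO.hom := inferInstanceAs (Etale (O.ι ≫ W.ι ≫ X.hom))
  haveI : IsSeparated X.hom := by rw [← Over.w i]; infer_instance
  haveI : IsSeparated XO.hom := inferInstanceAs (IsSeparated (O.ι ≫ W.ι ≫ X.hom))
  have hlift : ∀ k : Fin m, ∃ d : Over.mk p ⟶ XO, d ≫ v = e k := by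
    intro k
    obtain ⟨d₀, hd₀⟩ := hXl _ (e k) (hen k) fun z =>
      H21EtPt.mem_powLocus n (central_comm (e k)) z (natCast_residueField_ne hn z)
    have h1 : ∀ z, (1 : Over.mk p ⟶ H).left z ∈ PH := fun z =>
      H21EtPt.mem_powLocus n central_one z (natCast_residueField_ne hn z)
    have hW : ∀ z, d₀.left z ∈ W := fun z => by
      refine ⟨?_, ?_⟩
      · show (i ≫ u).left (d₀.left z) ∈ PH
        rw [← Scheme.Hom.comp_apply, ← Over.comp_left, ← Category.assoc, hd₀, heu]
        exact h1 z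
      · show (1 : X ⟶ H).left (d₀.left z) ∈ PH
        rw [← Scheme.Hom.comp_apply, ← Over.comp_left, MonObj.comp_one]
        exact h1 z
    let d₁l : (Over.mk p).left ⟶ W.toScheme := IsOpenImmersion.lift W.ι d₀.left (by
      rw [Scheme.Opens.range_ι]; rintro _ ⟨z, rfl⟩; exact hW z)
    have hd₁l : d₁l ≫ W.ι = d₀.left := IsOpenImmersion.lift_fac _ _ _
    let d₁ : Over.mk p ⟶ XW := Over.homMk d₁l (by
      show d₁l ≫ W.ι ≫ X.hom = _
      rw [← Category.assoc, hd₁l, Over.w d₀])
    have hd₁ : d₁ ≫ w = d₀ := Over.OverMorphism.ext hd₁l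
    have hab : d₁ ≫ a = d₁ ≫ b := by
      rw [← cancel_mono j, Category.assoc, Category.assoc, ha, hb, ← Category.assoc, ← Category.assoc, hd₁,
        ← Category.assoc, hd₀, heu, MonObj.comp_one]
    have hO : ∀ z, d₁.left z ∈ O := fun z => by
      refine ⟨(d₁ ≫ a).left z, ?_⟩
      have hc : (d₁ ≫ a).left ≫ Δ = d₁.left ≫ c := by
        apply pullback.hom_ext
        · simp [Δ, c]
        · rw [hab]
          simp [Δ, c]
      rw [← Scheme.Hom.comp_apply, hc, Scheme.Hom.comp_apply]
      rfl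
    let d₂l : (Over.mk p).left ⟶ O.toScheme := IsOpenImmersion.lift O.ι d₁.left (by
      rw [Scheme.Opens.range_ι]; rintro _ ⟨z, rfl⟩; exact hO z)
    have hd₂l : d₂l ≫ O.ι = d₁.left := IsOpenImmersion.lift_fac _ _ _
    let d₂ : Over.mk p ⟶ XO := Over.homMk d₂l (by
      show d₂l ≫ O.ι ≫ XW.hom = _
      rw [← Category.assoc, hd₂l, Over.w d₁])
    have hd₂ : d₂ ≫ o = d₁ := Over.OverMorphism.ext hd₂l
    refine ⟨d₂, ?_⟩
    simp only [v]
    rw [reassoc_of% hd₂, reassoc_of% hd₁, hd₀]
  choose d hd using hlift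
  have hs : s ∈ {x : S | H13AlgSp.AtLeast XO.hom m x} :=
    ⟨K, inferInstance, p, fun k => (d k).left, hp,
      fun k l h => he (by rw [← hd k, ← hd l, Over.OverMorphism.ext h]), fun k => Over.w (d k)⟩
  obtain ⟨L, fL, q, e', hq, he', heq⟩ := hts.mem_open (H13AlgSp.isOpen_atLeast XO.hom m) hs
  refine ⟨L, fL, q, fun k => (Over.homMk (e' k) (heq k) : Over.mk q ⟶ XO) ≫ v, hq, fun k l h => he' ?_,
    fun k => by rw [Category.assoc, hvu, MonObj.comp_one]⟩
  exact congrArg (·.left) ((cancel_mono v).1 h)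

/-- A finite kernel bounds the number of points killed by the homomorphism. -/
theorem exists_bound {G H : Over S} [GrpObj G] [GrpObj H] (u : G ⟶ H) [IsMonHom u] (t : S)
    (hfin : ∀ (N : Over (Spec (S.residueField t))) (i : N ⟶ Red.bc (S.fromSpecResidueField t) G),
      AlgGrp.IsKernel i ((Over.pullback (S.fromSpecResidueField t)).map u) → IsFinite N.hom) :
    ∃ C : ℕ, ∀ (L : Type u) [Field L] (q : Spec (CommRingCat.of L) ⟶ S) (m : ℕ) (e : Fin m → (Over.mk q ⟶ G)),
      q (IsLocalRing.closedPoint L) = t → Function.Injective e → (∀ i, e i ≫ u = 1) → m ≤ C := by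
  let jt := S.fromSpecResidueField t
  let F := Over.pullback jt
  let κ := S.residueField t
  let ut := F.map u
  let N := H19Grp.KernelGrp.ker ut
  have hker := H19Grp.KernelGrp.isKernel ut
  haveI : IsFinite N.hom := hfin _ _ hker
  let W : Scheme.{u} := N.left
  let w : W ⟶ Spec (CommRingCat.of κ) := N.hom
  haveI : IsFinite w := ‹IsFinite N.hom›
  haveI : IsAffine W := isAffine_of_isAffineHom w
  obtain ⟨β, hβ⟩ := Spec.map_surjective (W.isoSpec.inv ≫ w)
  let _ : Algebra κ Γ(W, ⊤) := β.hom.toAlgebra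
  have : IsFinite (Spec.map β) := hβ ▸ inferInstance
  have : Module.Finite κ Γ(W, ⊤) := RingHom.finite_algebraMap.1 ((IsFinite.SpecMap_iff β).1 this)
  refine ⟨Module.finrank κ Γ(W, ⊤), ?_⟩
  intro L _ q m e hq he heu
  obtain ⟨⟨x, φ⟩, hφ⟩ : ∃ d, (Scheme.SpecToEquivOfField L S).symm d = q := ⟨_, Equiv.symm_apply_apply _ q⟩
  obtain rfl : x = t := by
    rw [← hq, ← hφ]
    exact (Scheme.fromSpecResidueField_apply x _).symm
  have hφ' : q = Spec.map φ ≫ jt := hφ.symm
  subst hφ'
  let T : Over (Spec (S.residueField x)) := Over.mk (Spec.map φ)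
  have hy : ∀ i, ∃ y : T ⟶ N, y ≫ H19Grp.KernelGrp.incl ut = H21Diag.bcEquiv jt G T (e i) := fun i => by
    refine H19Grp.kernel_lift hker _ ?_
    show H21Diag.bcEquiv jt G T (e i) ≫ F.map u = 1
    refine ((Over.mapPullbackAdj jt).homEquiv_naturality_right (X := T) (e i) u).symm.trans ?_
    exact (congrArg (H21Diag.bcEquiv jt H T) (heu i)).trans (H21Diag.bcEquiv_one jt H T)
  choose y hy using hy
  let l : Fin m → (Spec (CommRingCat.of L) ⟶ W) := fun i => (y i).left
  have hlinj : Function.Injective l := fun a b hab => he <| by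
    apply (H21Diag.bcEquiv jt G T).injective
    rw [← hy a, ← hy b, show y a = y b from Over.OverMorphism.ext hab]
  have hlw : ∀ i, l i ≫ w = Spec.map φ := fun i => Over.w (y i)
  choose g hg using fun i => Spec.map_surjective (l i ≫ W.isoSpec.hom)
  have hgw : ∀ i, β ≫ g i = φ := fun i => Spec.map_injective (by
    rw [Spec.map_comp, hg, hβ, Category.assoc, Iso.hom_inv_id_assoc]
    exact hlw i)
  let _ : Algebra κ L := φ.hom.toAlgebra
  let a : Fin m → (Γ(W, ⊤) →ₐ[κ] L) := fun i => ⟨(g i).hom, fun c => congr($(hgw i).hom c)⟩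
  have hainj : Function.Injective a := fun i j h => hlinj (by
    have hgij : g i = g j := CommRingCat.hom_ext (congrArg AlgHom.toRingHom h)
    rw [← cancel_mono W.isoSpec.hom, ← hg, ← hg, hgij])
  have h1 := Nat.card_le_card_of_injective a hainj
  rw [Nat.card_fin] at h1
  exact h1.trans (card_algHom_le_finrank κ Γ(W, ⊤) L)

end Groth.Agent.H28SemiAb
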