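import Groth.Agent.H28SemiAb.Kernel
import Groth.Agent.H28SemiAb.Specialize
import Groth.Agent.H28SemiAb.QFFlat
import Groth.Agent.H19Grp.FibreLoci

/-!
# A homomorphism which is an isogeny generically is flat and quasi-finite at points of unipotent rank zero
-/

set_option autoImplicit false
set_option linter.style.haveILetI false
set_option backward.isDefEq.respectTransparency false
set_option backward.isDefEq.respectTransparency.types false
set_option maxHeartbeats 1000000
set_option synthInstance.maxHeartbeats 200000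
universe u

open CategoryTheory CategoryTheory.Limits MonoidalCategory CartesianMonoidalCategory MonObj AlgebraicGeometry
open Groth.Agent

noncomputable section

namespace Groth.Agent.H28SemiAb

attribute [local instance] Functor.grpObjObj
attribute [local instance 2000] Hom.group Hom.monoid

variable {S : Scheme.{u}} {G H : Over S} [GrpObj G] [IsCommMonObj G] [Flat G.hom] [IsSeparated G.hom]
  [LocallyOfFinitePresentation G.hom] [QuasiCompact G.hom] [GrpObj H] [Smooth H.hom] (u : G ⟶ H) [IsMonHom u]
  {s t : S}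

/-- Over the algebraic closure of the residue field at `s` the homomorphism is quasi-finite. -/
theorem lqf_geomFibre (hts : t ⤳ s) (hs : SGA7.FibreUnipotentRankZero s G)
    (hiso : SGA7.IsIsogenyOver (SGA7.fibreHom t u)) :
    LocallyQuasiFinite ((Over.pullback (Red.geomPt s)).map u).left := by
  let Ω := AlgebraicClosure (S.residueField s)
  let g : Spec (CommRingCat.of Ω) ⟶ S := Red.geomPt s
  let F := Over.pullback g
  haveI : LocallyOfFiniteType (F.obj G).hom := inferInstanceAs (LocallyOfFiniteType (pullback.snd G.hom g))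
  haveI : QuasiCompact (F.obj G).hom := inferInstanceAs (QuasiCompact (pullback.snd G.hom g))
  haveI : LocallyOfFiniteType (F.obj H).hom := inferInstanceAs (LocallyOfFiniteType (pullback.snd H.hom g))
  haveI : IsMonHom (F.map u) := inferInstance
  have hNo : NoGa (F.obj G) := fun j hj hjc => hs j hj hjc
  refine lqf_of_finite_ker (F.map u) (Classical.byContradiction fun hinf => ?_)
  obtain ⟨ℓ, hℓ, hℓk⟩ := H19Chev.UnipotentIsogeny.exists_prime_ne_zero (K := Ω)
  obtain ⟨C, hC⟩ := exists_bound u t hiso.2
  let n := ℓ ^ C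
  obtain ⟨x, hxu, hx⟩ := exists_orderOf_ker hNo (F.map u) hinf hℓ hℓk C
  let T : Over (Spec (CommRingCat.of Ω)) := 𝟙_ _
  let φ : ((Over.map g).obj T ⟶ G) ≃* (T ⟶ F.obj G) :=
    { H21Diag.bcEquiv g G T with map_mul' := fun a b => H21Diag.bcEquiv_mul g G T a b }
  let e : Fin n → ((Over.map g).obj T ⟶ G) := fun i => φ.symm (x ^ (i : ℕ))
  have he : Function.Injective e := fun i j h => by
    refine Fin.ext (pow_injOn_Iio_orderOf (x := x) ?_ ?_ (φ.symm.injective h)) <;> rw [hx] <;> exact Fin.is_lt _
  have hxn : x ^ n = 1 := by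
    show x ^ ℓ ^ C = 1
    rw [← hx, pow_orderOf_eq_one]
  have hen : ∀ i, e i ^ n = 1 := fun i => by
    show φ.symm (x ^ (i : ℕ)) ^ n = 1
    rw [← map_pow, ← pow_mul, mul_comm, pow_mul, hxn, one_pow, map_one]
  have heu : ∀ i, e i ≫ u = 1 := fun i => by
    refine (H21Diag.bcEquiv g H T).injective ?_
    refine ((Over.mapPullbackAdj g).homEquiv_naturality_right (e i) u).trans ?_
    rw [H21Diag.bcEquiv_one]
    show φ (φ.symm (x ^ (i : ℕ))) ≫ F.map u = 1
    rw [φ.apply_symm_apply, MonObj.pow_comp, hxu, one_pow]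
  obtain ⟨L, fL, q, e', hq, he', he'u⟩ := exists_pts_of_specializes u n n hts (K := Ω)
    (T.hom ≫ g) (by
      show g (T.hom (IsLocalRing.closedPoint Ω)) = s
      exact Scheme.fromSpecResidueField_apply s _) (by
      show ((ℓ ^ C : ℕ) : Ω) ≠ 0
      rw [Nat.cast_pow]; exact pow_ne_zero _ hℓk) e he hen heu
  exact absurd (hC L q n e' hq he' he'u) (not_le.2 (Nat.lt_pow_self hℓ.one_lt))

/-- Near `s` the homomorphism is flat and quasi-finite at every point. -/
theorem exists_nhd_loci (hts : t ⤳ s) (hs : SGA7.FibreUnipotentRankZero s G)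
    (hiso : SGA7.IsIsogenyOver (SGA7.fibreHom t u)) :
    ∃ U : S.Opens, s ∈ U ∧
      ∀ x : G.left, G.hom x ∈ U → H19Grp.FlatPt u.left x ∧ H19Grp.OnNhd @LocallyQuasiFinite u.left x := by
  haveI := H19Grp.locallyOfFinitePresentation_left u
  have hG : ∀ y : S, LocallyOfFiniteType (G.hom.fiberToSpecResidueField y) := fun y =>
    MorphismProperty.pullback_snd (P := @LocallyOfFiniteType) _ _ inferInstance
  haveI := lqf_geomFibre u hts hs hiso
  obtain ⟨hQo, hQe⟩ := H19Grp.isOpen_quasiFinite_and_eq u hG
  obtain ⟨hFo, hFe⟩ := H19Grp.isOpen_flat_and_eq u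
  have hsQ : s ∈ {y : S | LocallyQuasiFinite ((Over.pullback (S.fromSpecResidueField y)).map u).left} := by
    have h1 : η[G].left s ∈ {x : G.left | H19Grp.OnNhd @LocallyQuasiFinite u.left x} := by
      obtain ⟨z, hz⟩ : η[G].left s ∈ Set.range (pullback.fst G.hom (Red.geomPt s)) := by
        rw [Scheme.Pullback.range_fst]
        refine ⟨IsLocalRing.closedPoint _, ?_⟩
        exact (Scheme.fromSpecResidueField_apply s _).trans (H19Grp.hom_one_apply G s).symm
      have h2 : u.left.QuasiFiniteAt (η[G].left s) := hz ▸ H19Grp.quasiFiniteAt_desc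
        (H19Grp.isPullback_map (Red.geomPt s) u)
        (((Over.pullback (Red.geomPt s)).map u).left.quasiFiniteAt z)
      obtain ⟨U, hU, -, hUq⟩ := H19Grp.qfPt_of_quasiFiniteAt u.left _ h2
      exact ⟨U, hU, hUq⟩
    rw [hQe] at h1
    have h3 : G.hom (η[G].left s) ∈ {y : S | LocallyQuasiFinite ((Over.pullback (S.fromSpecResidueField y)).map u).left} := h1
    rwa [H19Grp.hom_one_apply] at h3
  have hsF : s ∈ {y : S | Flat ((Over.pullback (S.fromSpecResidueField y)).map u).left} := by
    let js := S.fromSpecResidueField s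
    let jt := S.fromSpecResidueField t
    haveI : LocallyQuasiFinite ((Over.pullback js).map u).left := hsQ
    haveI : LocallyOfFiniteType ((Over.pullback js).obj G).hom := inferInstanceAs (LocallyOfFiniteType (pullback.snd G.hom js))
    haveI : QuasiCompact ((Over.pullback js).obj G).hom := inferInstanceAs (QuasiCompact (pullback.snd G.hom js))
    haveI : Smooth ((Over.pullback js).obj H).hom := inferInstanceAs (Smooth (pullback.snd H.hom js))
    haveI : LocallyOfFiniteType ((Over.pullback jt).obj G).hom := inferInstanceAs (LocallyOfFiniteType (pullback.snd G.hom jt))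
    haveI : QuasiCompact ((Over.pullback jt).obj G).hom := inferInstanceAs (QuasiCompact (pullback.snd G.hom jt))
    haveI : LocallyOfFiniteType ((Over.pullback jt).obj H).hom := inferInstanceAs (LocallyOfFiniteType (pullback.snd H.hom jt))
    refine flat_of_lqf_of_dim_le (k := S.residueField s) ((Over.pullback js).map u) ?_
    calc topologicalKrullDim ((Over.pullback js).obj H).left
        = FlatMor.fibreDimAt H.hom (η[H].left t) := by rw [fibreDimAt_unit_eq H hts, fibreDimAt_unit]
      _ = topologicalKrullDim ((Over.pullback jt).obj H).left := fibreDimAt_unit H t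
      _ ≤ topologicalKrullDim ((Over.pullback jt).obj G).left :=
          dim_le_of_surjective_finite_ker (k := S.residueField t) ((Over.pullback jt).map u) hiso
      _ = FlatMor.fibreDimAt G.hom (η[G].left t) := (fibreDimAt_unit G t).symm
      _ ≤ FlatMor.fibreDimAt G.hom (η[G].left s) :=
          H8Props.FieldDim.fibreDimAt_le_of_specializes G.hom (hts.map η[G].left.continuous)
      _ = topologicalKrullDim ((Over.pullback js).obj G).left := fibreDimAt_unit G s
  refine ⟨⟨_, hQo.inter hFo⟩, ⟨hsQ, hsF⟩, fun x hx => ⟨?_, ?_⟩⟩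
  · exact hFe.ge hx.2
  · exact hQe.ge hx.1

omit [GrpObj G] [IsCommMonObj G] [Flat G.hom] [IsSeparated G.hom] [LocallyOfFinitePresentation G.hom]
  [QuasiCompact G.hom] [GrpObj H] [Smooth H.hom] [IsMonHom u] in
/-- Base change to a scheme lying over a good open. -/
theorem flat_lqf_of_range {T : Scheme.{u}} (g : T ⟶ S) {U : S.Opens} (hg : ∀ y, g y ∈ U)
    (hU : ∀ x : G.left, G.hom x ∈ U → H19Grp.FlatPt u.left x ∧ H19Grp.OnNhd @LocallyQuasiFinite u.left x) :
    Flat ((Over.pullback g).map u).left ∧ LocallyQuasiFinite ((Over.pullback g).map u).left := by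
  have h : ∀ z : ↥((Over.pullback g).obj G).left, G.hom (pullback.fst G.hom g z) ∈ U := fun z => by
    rw [← Scheme.Hom.comp_apply, pullback.condition, Scheme.Hom.comp_apply]
    exact hg _
  refine ⟨(Flat.iff_flat_stalkMap _).2 fun z => ?_, ?_⟩
  · exact H19Grp.ptBC_flatPt _ _ _ _ (H19Grp.isPullback_map g u) z (hU _ (h z)).1
  · exact H19Grp.of_forall_onNhd @LocallyQuasiFinite _ fun z =>
      H19Grp.ptBC_onNhd @LocallyQuasiFinite _ _ _ _ (H19Grp.isPullback_map g u) z (hU _ (h z)).2

/-- There is a neighbourhood of `s` over which the homomorphism is flat and quasi-finite. -/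
theorem exists_nhd_flat_lqf (hts : t ⤳ s) (hs : SGA7.FibreUnipotentRankZero s G)
    (hiso : SGA7.IsIsogenyOver (SGA7.fibreHom t u)) :
    ∃ U : S.Opens, s ∈ U ∧ Flat ((Over.pullback U.ι).map u).left ∧
      LocallyQuasiFinite ((Over.pullback U.ι).map u).left := by
  obtain ⟨U, hsU, hU⟩ := exists_nhd_loci u hts hs hiso
  exact ⟨U, hsU, flat_lqf_of_range u U.ι (fun y => y.2) hU⟩

end Groth.Agent.H28SemiAb
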