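import Groth.Agent.H28SemiAb.Basic

/-!
# Homomorphisms out of groups without additive subgroups: infinite kernels contain much torsion
-/

set_option autoImplicit false
set_option linter.style.haveILetI false
set_option backward.isDefEq.respectTransparency false
set_option backward.isDefEq.respectTransparency.types false
set_option maxHeartbeats 1000000
set_option synthInstance.maxHeartbeats 200000
universe u

open CategoryTheory CategoryTheory.Limits MonoidalCategory CartesianMonoidalCategory MonObj AlgebraicGeometry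
open Groth.Agent

noncomputable section

namespace Groth.Agent.H28SemiAb

attribute [local instance 2000] Hom.group Hom.monoid

variable {k : Type u} [Field k] [IsAlgClosed k]

local notation "Pts" X => 𝟙_ (Over (Spec (CommRingCat.of k))) ⟶ X

/-- The reduced identity component of a kernel: smooth, connected, and trivial only if the kernel is finite. -/
theorem exists_kerComp {G Q : Over (Spec (CommRingCat.of k))} [GrpObj G] [GrpObj Q] [IsCommMonObj G]
    [LocallyOfFiniteType G.hom] [QuasiCompact G.hom] [LocallyOfFiniteType Q.hom] (f : G ⟶ Q) [IsMonHom f] :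
    ∃ (H : Over (Spec (CommRingCat.of k))) (_ : GrpObj H) (_ : IsCommMonObj H) (m : H ⟶ G),
      IsMonHom m ∧ IsClosedImmersion m.left ∧ ConnectedSpace H.left ∧ Smooth H.hom ∧ QuasiCompact H.hom ∧
      m ≫ f = 1 ∧ ((∀ x : Pts H, x = 1) → {x : Pts G | x ≫ f = 1}.Finite) := by
  classical
  obtain ⟨gK, hi⟩ := H19Grp.KernelGrp.exists_grpObj f
  let K := H19Grp.KernelGrp.ker f
  let i : K ⟶ G := H19Grp.KernelGrp.incl f
  haveI : IsMonHom i := hi
  haveI := H19Grp.KernelGrp.isCommMonObj f
  haveI : IsSeparated Q.hom := H19Grp.AffineQuotient.isSeparated_of_grp Q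
  haveI := H19Grp.AffineQuotient.isClosedImmersion_unit Q
  haveI : IsClosedImmersion i.left := MorphismProperty.pullback_fst (P := @IsClosedImmersion) _ _ inferInstance
  haveI : LocallyOfFiniteType K.hom := by rw [← Over.w i]; infer_instance
  haveI : QuasiCompact K.hom := by rw [← Over.w i]; infer_instance
  obtain ⟨gR, hrr⟩ := H19Grp.GroupCI.exists_grpObj_reduced K
  let R : Over (Spec (CommRingCat.of k)) := Over.mk (K.left.nilradical.subschemeι ≫ K.hom)
  let rr : R ⟶ K := Over.homMk K.left.nilradical.subschemeι rfl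
  haveI : IsMonHom rr := hrr
  haveI : IsReduced R.left := inferInstanceAs (IsReduced K.left.nilradical.subscheme)
  haveI : IsClosedImmersion rr.left := inferInstanceAs (IsClosedImmersion K.left.nilradical.subschemeι)
  haveI : LocallyOfFiniteType R.hom := by rw [← Over.w rr]; infer_instance
  haveI : QuasiCompact R.hom := by rw [← Over.w rr]; infer_instance
  haveI : Smooth R.hom := H19Grp.smooth_of_isReduced_perfect R
  obtain ⟨H, gH, j, hj, hjc, hjo, hHn, hHs, hHq, h1⟩ := H19Chev.exists_smooth_idComp R
  haveI := hj; haveI := hjc; haveI := hjo; haveI := hHn; haveI := hHs; haveI := hHq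
  let m : H ⟶ G := j ≫ rr ≫ i
  haveI : IsClosedImmersion m.left := by simp only [m, Over.comp_left]; infer_instance
  haveI : Mono m := Over.mono_of_mono_left _
  haveI : IsCommMonObj H := by
    refine ⟨(cancel_mono m).1 ?_⟩
    rw [Category.assoc, IsMonHom.mul_hom, ← BraidedCategory.braiding_naturality_assoc, IsCommMonObj.mul_comm]
  have hmf : m ≫ f = 1 := by
    simp only [m, Category.assoc]
    rw [H19Grp.kernel_comp_eq_one (H19Grp.KernelGrp.isKernel f), MonObj.comp_one, MonObj.comp_one]
  refine ⟨H, gH, inferInstance, m, inferInstance, inferInstance, hHn, hHs, hHq, hmf, fun hH => ?_⟩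
  haveI : CompactSpace R.left := QuasiCompact.compactSpace_of_compactSpace R.hom
  obtain ⟨s, hs⟩ := H19Chev.finite_classes j h1
  have hR : ∀ x : Pts R, x ∈ s := fun x => by
    obtain ⟨g, hg, a, ha⟩ := hs x
    rw [hH a, MonObj.one_comp] at ha
    rwa [eq_of_mul_inv_eq_one ha.symm]
  refine (s.finite_toSet.image fun z : Pts R => z ≫ rr ≫ i).subset fun x hx => ?_
  obtain ⟨y, rfl⟩ := H19Grp.kernel_lift (H19Grp.KernelGrp.isKernel f) x hx
  haveI : IsReduced (𝟙_ (Over (Spec (CommRingCat.of k)))).left :=
    inferInstanceAs (IsReduced (Spec (CommRingCat.of k)))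
  haveI : Surjective rr.left := ⟨fun z => by
    have : Set.range K.left.nilradical.subschemeι = Set.univ := by
      rw [Scheme.IdealSheafData.range_subschemeι, Scheme.support_nilradical]
      rfl
    exact this.ge trivial⟩
  obtain ⟨w, hw⟩ := H17.exists_lift_of_range_subset y.left rr.left (fun z _ => rr.left.surjective z)
  let z : Pts R := Over.homMk w (by rw [← Over.w y, ← hw, Category.assoc, Over.w rr])
  have hz : z ≫ rr = y := Over.OverMorphism.ext hw
  exact ⟨z, hR z, by show z ≫ rr ≫ i = y ≫ i; rw [reassoc_of% hz]⟩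

/-- A kernel which is not finite contains cyclic subgroups of all `ℓ`-power orders. -/
theorem exists_orderOf_ker {G Q : Over (Spec (CommRingCat.of k))} [GrpObj G] [GrpObj Q] [IsCommMonObj G]
    [LocallyOfFiniteType G.hom] [QuasiCompact G.hom] [LocallyOfFiniteType Q.hom] (hG : NoGa G) (f : G ⟶ Q)
    [IsMonHom f] (hinf : ¬ {x : Pts G | x ≫ f = 1}.Finite) {ℓ : ℕ} (hℓ : ℓ.Prime) (hℓk : (ℓ : k) ≠ 0) (a : ℕ) :
    ∃ x : Pts G, x ≫ f = 1 ∧ orderOf x = ℓ ^ a := by
  obtain ⟨H, gH, cH, m, hm, hmc, hHn, hHs, hHq, hmf, hfin⟩ := exists_kerComp f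
  haveI := hm; haveI := hmc; haveI := hHn; haveI := hHs; haveI := hHq
  haveI : Mono m := Over.mono_of_mono_left _
  have hne : ∃ x : Pts H, x ≠ 1 := by
    by_contra h
    push Not at h
    exact hinf (hfin h)
  haveI := Fact.mk hℓ
  obtain ⟨y, hy, hy1⟩ := exists_torsion_pt H (hG.of_closed m) hne hℓ hℓk
  haveI := (surjective_flat_pow H (hG.of_closed m) (pow_pos hℓ.pos a)).1
  haveI : LocallyOfFiniteType H.hom := inferInstance
  obtain ⟨x, hx⟩ := H19Chev.exists_pt_lift ((𝟙 H) ^ (ℓ ^ a) : H ⟶ H) y
  rw [comp_id_pow] at hx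
  cases a with
  | zero => exact ⟨1, MonObj.one_comp f, by simp⟩
  | succ b =>
    refine ⟨(x ^ ℓ) ≫ m, by rw [Category.assoc, hmf, MonObj.comp_one], ?_⟩
    apply orderOf_eq_prime_pow
    · intro h
      rw [← MonObj.pow_comp, ← pow_mul, ← pow_succ', hx] at h
      exact hy1 ((cancel_mono m).1 (h.trans (MonObj.one_comp m).symm))
    · rw [← MonObj.pow_comp, ← pow_mul, ← pow_succ', pow_succ, pow_mul, hx, hy, MonObj.one_comp]

/-- A homomorphism with finitely many points in its kernel is quasi-finite. -/
theorem lqf_of_finite_ker {G Q : Over (Spec (CommRingCat.of k))} [GrpObj G] [GrpObj Q]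
    [LocallyOfFiniteType G.hom] [QuasiCompact G.hom] [LocallyOfFiniteType Q.hom] (f : G ⟶ Q) [IsMonHom f]
    (h : {x : Pts G | x ≫ f = 1}.Finite) : LocallyQuasiFinite f.left := by
  haveI : IsSeparated Q.hom := H19Grp.AffineQuotient.isSeparated_of_grp Q
  haveI : LocallyOfFiniteType (f.left ≫ Q.hom) := by rw [Over.w f]; infer_instance
  haveI : QuasiCompact (f.left ≫ Q.hom) := by rw [Over.w f]; infer_instance
  haveI : LocallyOfFiniteType f.left := locallyOfFiniteType_of_comp f.left Q.hom
  haveI : QuasiCompact f.left := QuasiCompact.of_comp _ Q.hom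
  haveI := H19Grp.AffineQuotient.isClosedImmersion_unit Q
  let P : Over (Spec (CommRingCat.of k)) := Over.mk (pullback.snd f.left η[Q].left)
  haveI : LocallyOfFiniteType P.hom :=
    MorphismProperty.pullback_snd (P := @LocallyOfFiniteType) _ _ inferInstance
  have hw : pullback.fst f.left η[Q].left ≫ G.hom = P.hom := by
    rw [← Over.w f, reassoc_of% (pullback.condition (f := f.left) (g := η[Q].left)), Over.w η[Q]]
    exact Category.comp_id _
  let j : P ⟶ G := Over.homMk (pullback.fst f.left η[Q].left) hw
  have hj : j ≫ f = 1 := by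
    rw [Hom.one_def]
    refine Over.OverMorphism.ext ?_
    show pullback.fst f.left η[Q].left ≫ f.left = _
    rw [pullback.condition, Over.comp_left]
    congr 1
  haveI : Mono j := by
    haveI : IsClosedImmersion j.left := MorphismProperty.pullback_fst (P := @IsClosedImmersion) _ _ inferInstance
    exact Over.mono_of_mono_left _
  haveI : Finite P.left := H19Chev.finite_space_of_points (Set.Finite.of_finite_image (f := fun a : Pts P => a ≫ j)
    (h.subset (by
      rintro _ ⟨a, -, rfl⟩
      show (a ≫ j) ≫ f = 1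
      rw [Category.assoc, hj, MonObj.comp_one]))
    fun a _ b _ hab => (cancel_mono j).1 hab)
  exact H19Grp.ArtinHom.lqf_of_kernel f
    (LocallyQuasiFinite.of_finite_preimage_singleton P.hom fun _ => Set.toFinite _)

end Groth.Agent.H28SemiAb
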