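import Groth.Agent.H28SemiAb.IsogenyNhd
import Groth.Agent.H17.Image
import Groth.Agent.H21Diag.Loci
import Groth.Agent.H19Grp.Neutral
import Mathlib.AlgebraicGeometry.Morphisms.FlatMono
import Mathlib.AlgebraicGeometry.Morphisms.FlatRank

/-!
# A flat quasi-finite homomorphism which is injective generically is injective
-/

set_option autoImplicit false
set_option linter.style.haveILetI false
set_option linter.unusedSectionVars false
set_option backward.isDefEq.respectTransparency false
set_option backward.isDefEq.respectTransparency.types false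
set_option maxHeartbeats 1000000
set_option synthInstance.maxHeartbeats 200000
universe u

open CategoryTheory CategoryTheory.Limits MonoidalCategory CartesianMonoidalCategory MonObj AlgebraicGeometry
open Groth.Agent

noncomputable section

namespace Groth.Agent.H28SemiAb

attribute [local instance] Functor.grpObjObj
attribute [local instance 2000] Hom.group Hom.monoid

/-- A separated flat quasi-finite scheme with a section which is everything at the generic point is trivial. -/
theorem isIso_of_section {N T : Scheme.{u}} (p : N ⟶ T) [Flat p] [LocallyOfFinitePresentation p] [IsSeparated p]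
    [LocallyQuasiFinite p] (e : T ⟶ N) (he : e ≫ p = 𝟙 T) (η₀ : T) (hη : ∀ y, η₀ ⤳ y)
    (hgen : IsIso (pullback.snd p (T.fromSpecResidueField η₀))) : IsIso p := by
  haveI : IsClosedImmersion e := by
    haveI : IsClosedImmersion (e ≫ p) := by rw [he]; infer_instance
    exact IsClosedImmersion.of_comp e p
  have hfib : ∀ z : N, p z = η₀ → z = e η₀ := by
    intro z hz
    have he' : p (e η₀) = η₀ := by rw [← Scheme.Hom.comp_apply, he]; rfl
    let q : p.fiber η₀ ⟶ Spec (T.residueField η₀) := pullback.snd p (T.fromSpecResidueField η₀)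
    haveI : IsIso q := hgen
    obtain ⟨a, ha⟩ : z ∈ Set.range (p.fiberι η₀) := by rw [p.range_fiberι]; exact hz
    obtain ⟨b, hb⟩ : e η₀ ∈ Set.range (p.fiberι η₀) := by rw [p.range_fiberι]; exact he'
    rw [← ha, ← hb, show a = b from q.homeomorph.injective (Subsingleton.elim _ _)]
  haveI : Surjective e := ⟨fun z => by
    obtain ⟨z', hz', hpz'⟩ := Flat.generalizingMap p (hη (p z))
    rw [hfib z' hpz'] at hz'
    obtain ⟨y, hy⟩ := hz'.mem_closed e.isClosedEmbedding.isClosed_range ⟨η₀, rfl⟩
    exact ⟨y, hy⟩⟩
  haveI : UniversallyClosed (e ≫ p) := by rw [he]; infer_instance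
  haveI : UniversallyClosed p := UniversallyClosed.of_comp_surjective e p
  haveI : IsProper p := {}
  haveI : IsFinite p := IsFinite.of_isProper_of_locallyQuasiFinite p
  rw [Scheme.Hom.isIso_iff_finrank_eq]
  funext y
  have h0 : Scheme.Hom.finrank p η₀ = 1 := by
    haveI := hgen
    have h := Scheme.Hom.finrank_pullback_snd p (T.fromSpecResidueField η₀) (IsLocalRing.closedPoint (T.residueField η₀))
    rw [Scheme.Hom.finrank_eq_one_of_isIso, Scheme.fromSpecResidueField_apply] at h
    exact h.symm
  have hopen := p.isLocallyConstant_finrank.isOpen_fiber (Scheme.Hom.finrank p y)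
  have h1 : η₀ ∈ {x | Scheme.Hom.finrank p x = Scheme.Hom.finrank p y} := (hη y).mem_open hopen rfl
  rw [← h1, h0]
  rfl

variable {S T : Scheme.{u}} {G H : Over S} [GrpObj G] [GrpObj H] (u : G ⟶ H) [IsMonHom u]

omit [GrpObj G] [GrpObj H] [IsMonHom u] in
theorem bc_fst {T : Scheme.{u}} (g : T ⟶ S) :
    ((Over.pullback g).map u).left ≫ pullback.fst H.hom g = pullback.fst G.hom g ≫ u.left :=
  (H19Grp.isPullback_map g u).w.symm

/-- Flatness, quasi-finiteness and injectivity at the generic point give injectivity. -/
theorem mono_of_generic [LocallyOfFinitePresentation G.hom] [IsSeparated G.hom] [LocallyOfFiniteType H.hom]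
    (g : T ⟶ S) (η₀ : T) (hη : ∀ y, η₀ ⤳ y) [Flat ((Over.pullback g).map u).left]
    [LocallyQuasiFinite ((Over.pullback g).map u).left] (hK : H21Diag.KerTriv u (g η₀)) :
    Mono ((Over.pullback g).map u).left := by
  let F := Over.pullback g
  let uT := F.map u
  haveI : IsMonHom uT := inferInstance
  haveI : LocallyOfFinitePresentation (F.obj G).hom := inferInstanceAs (LocallyOfFinitePresentation (pullback.snd G.hom g))
  haveI : IsSeparated (F.obj G).hom := inferInstanceAs (IsSeparated (pullback.snd G.hom g))
  haveI : LocallyOfFiniteType (F.obj H).hom := inferInstanceAs (LocallyOfFiniteType (pullback.snd H.hom g))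
  haveI : LocallyOfFinitePresentation uT.left := H19Grp.locallyOfFinitePresentation_left uT
  haveI : IsSeparated (uT.left ≫ (F.obj H).hom) := by rw [Over.w uT]; infer_instance
  haveI : IsSeparated uT.left := IsSeparated.of_comp uT.left (F.obj H).hom
  let N := H19Grp.KernelGrp.ker uT
  have hker := H19Grp.KernelGrp.isKernel uT
  let p : N.left ⟶ T := N.hom
  haveI : Flat p := MorphismProperty.pullback_snd (P := @Flat) _ _ inferInstance
  haveI : LocallyOfFinitePresentation p :=
    MorphismProperty.pullback_snd (P := @LocallyOfFinitePresentation) _ _ inferInstance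
  haveI : IsSeparated p := MorphismProperty.pullback_snd (P := @IsSeparated) _ _ inferInstance
  haveI : LocallyQuasiFinite p := MorphismProperty.pullback_snd (P := @LocallyQuasiFinite) _ _ inferInstance
  obtain ⟨e₀, -⟩ := H19Grp.kernel_lift hker η[F.obj G] (by
    rw [IsMonHom.one_hom uT, Hom.one_def, toUnit_unique (toUnit (𝟙_ (Over T))) (𝟙 _), Category.id_comp])
  have he₀ : e₀.left ≫ p = 𝟙 T := Over.w e₀
  let j := T.fromSpecResidueField η₀
  let s := g η₀
  let d : Spec (T.residueField η₀) ⟶ Spec (S.residueField s) := Spec.map (g.residueFieldMap η₀)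
  have hd : d ≫ S.fromSpecResidueField s = j ≫ g := g.SpecMap_residueFieldMap_fromSpecResidueField η₀
  haveI : IsIso (pullback.snd p j) := by
    haveI : IsSplitEpi (pullback.snd p j) :=
      IsSplitEpi.mk' ⟨pullback.lift (j ≫ e₀.left) (𝟙 _) (by rw [Category.assoc, he₀, Category.comp_id, Category.id_comp]),
        pullback.lift_snd _ _ _⟩
    haveI : Mono (pullback.snd p j) := ⟨fun {W} a b hab => by
      let γl : (W ⟶ pullback p j) → (W ⟶ G.left) := fun a =>
        a ≫ pullback.fst p j ≫ (H19Grp.KernelGrp.incl uT).left ≫ pullback.fst G.hom g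
      have hinc : (H19Grp.KernelGrp.incl uT).left ≫ pullback.snd G.hom g = p :=
        Over.w (H19Grp.KernelGrp.incl uT)
      have key : ∀ a : W ⟶ pullback p j,
          γl a = ((a ≫ pullback.snd p j ≫ d) ≫ S.fromSpecResidueField s) ≫ η[G].left := by
        intro a
        let T' : Over (Spec (S.residueField s)) := Over.mk (a ≫ pullback.snd p j ≫ d)
        have hγw : γl a ≫ G.hom = (a ≫ pullback.snd p j ≫ d) ≫ S.fromSpecResidueField s := by
          simp only [γl, Category.assoc]
          rw [pullback.condition (f := G.hom), reassoc_of% hinc, ← Category.assoc (pullback.fst p j), pullback.condition,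
            Category.assoc, hd]
        let gam : (Over.map (S.fromSpecResidueField s)).obj T' ⟶ G := Over.homMk (γl a) hγw
        have hgam : gam ≫ u = 1 := by
          refine Over.OverMorphism.ext ?_
          rw [H21Diag.one_left, Over.comp_left]
          show γl a ≫ u.left = ((a ≫ pullback.snd p j ≫ d) ≫ S.fromSpecResidueField s) ≫ η[H].left
          have h1 := congrArg (·.left) (H19Grp.kernel_comp_eq_one hker)
          simp only [Over.comp_left, H21Diag.one_left] at h1
          simp only [γl, Category.assoc]
          rw [← bc_fst u g, reassoc_of% h1, H19Grp.bc_one g H]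
          rw [← Category.assoc (pullback.fst p j), pullback.condition, Category.assoc, ← reassoc_of% hd]
        have h := congrArg (·.left) (hK T' gam hgam)
        rw [H21Diag.one_left] at h
        exact h
      apply pullback.hom_ext _ hab
      haveI : Mono (H19Grp.KernelGrp.incl uT).left := by
        haveI := H19Grp.kernel_mono hker
        exact (Over.forget T).map_mono (H19Grp.KernelGrp.incl uT)
      rw [← cancel_mono (H19Grp.KernelGrp.incl uT).left]
      apply pullback.hom_ext
      · have h0 : γl a = γl b := by
          rw [key, key]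
          simp only [Category.assoc]
          rw [reassoc_of% hab]
        simpa only [γl, Category.assoc] using h0
      · simp only [Category.assoc, hinc]
        rw [pullback.condition, ← Category.assoc, hab, Category.assoc]⟩
    exact isIso_of_mono_of_isSplitEpi _
  haveI : IsIso p := isIso_of_section p e₀.left he₀ η₀ hη inferInstance
  haveI : Mono uT := ⟨fun {W} a b hab => by
    obtain ⟨y, hy⟩ := H19Grp.kernel_lift hker (a * b⁻¹) (by
      rw [MonObj.mul_comp, GrpObj.inv_comp, hab, mul_inv_cancel])
    obtain ⟨y₁, hy₁⟩ := H19Grp.kernel_lift hker (1 : W ⟶ F.obj G) (MonObj.one_comp uT)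
    have hyy : y = y₁ := Over.OverMorphism.ext (by
      rw [← cancel_mono p]; exact (Over.w y).trans (Over.w y₁).symm)
    rw [hyy, hy₁] at hy
    exact mul_inv_eq_one.mp hy.symm⟩
  exact inferInstanceAs (Mono ((Over.forget T).map uT))

omit [GrpObj G] [GrpObj H] [IsMonHom u] in
/-- Injectivity is inherited by further base changes. -/
theorem mono_of_factor {T' : Scheme.{u}} (g : T ⟶ S) (g' : T' ⟶ T) [Mono ((Over.pullback g).map u).left] :
    Mono ((Over.pullback (g' ≫ g)).map u).left := by
  let top : pullback G.hom (g' ≫ g) ⟶ pullback G.hom g :=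
    pullback.lift (pullback.fst _ _) (pullback.snd _ _ ≫ g') (by rw [pullback.condition, Category.assoc])
  let bot : pullback H.hom (g' ≫ g) ⟶ pullback H.hom g :=
    pullback.lift (pullback.fst _ _) (pullback.snd _ _ ≫ g') (by rw [pullback.condition, Category.assoc])
  have hs : IsPullback (top ≫ pullback.fst G.hom g) ((Over.pullback (g' ≫ g)).map u).left u.left
      (bot ≫ pullback.fst H.hom g) := by
    rw [pullback.lift_fst, pullback.lift_fst]
    exact H19Grp.isPullback_map _ u
  have hw : top ≫ ((Over.pullback g).map u).left = ((Over.pullback (g' ≫ g)).map u).left ≫ bot := by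
    apply pullback.hom_ext
    · simp [top, bot]
    · simp [top, bot]
  exact MorphismProperty.of_isPullback (P := MorphismProperty.monomorphisms Scheme)
    (IsPullback.of_right hs hw (H19Grp.isPullback_map g u)) ‹_›

variable [IsCommMonObj G] [Flat G.hom] [IsSeparated G.hom] [LocallyOfFinitePresentation G.hom] [QuasiCompact G.hom]
  [Smooth H.hom] {s t : S}

theorem kerTriv_of_mono (t : S) [Mono ((Over.pullback (S.fromSpecResidueField t)).map u)] :
    H21Diag.KerTriv u t :=
  (H21Diag.kerTriv_iff_mono u t).2 (inferInstanceAs (Mono ((Over.forget _).map ((Over.pullback (S.fromSpecResidueField t)).map u))))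

/-- At `s` the homomorphism is an open immersion. -/
theorem isOpenImmersion_fibre (hts : t ⤳ s) (hs : SGA7.FibreUnipotentRankZero s G)
    (hiso : SGA7.IsIsogenyOver (SGA7.fibreHom t u)) (hK : H21Diag.KerTriv u t) :
    IsOpenImmersion ((Over.pullback (S.fromSpecResidueField s)).map u).left := by
  obtain ⟨U, hsU, hU⟩ := exists_nhd_loci u hts hs hiso
  let t' : U := ⟨t, hts.mem_open U.2 hsU⟩
  let C : TopologicalSpace.Closeds U.toScheme := ⟨closure {t'}, isClosed_closure⟩
  let I := Scheme.IdealSheafData.vanishingIdeal C
  let c : I.subscheme ⟶ U.toScheme := I.subschemeι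
  have hrange : Set.range c = closure {t'} := by
    rw [Scheme.IdealSheafData.range_subschemeι, Scheme.IdealSheafData.coe_support_vanishingIdeal]; rfl
  let g : I.subscheme ⟶ S := c ≫ U.ι
  obtain ⟨η₀, hη₀⟩ := hrange.ge (subset_closure rfl)
  have hη : ∀ y, η₀ ⤳ y := fun y => by
    rw [← c.isEmbedding.isInducing.specializes_iff, hη₀, specializes_iff_mem_closure]
    exact hrange.le ⟨y, rfl⟩
  have hg₀ : g η₀ = t := (Scheme.Hom.comp_apply c U.ι η₀).trans (congrArg U.ι hη₀)
  obtain ⟨hf, hq⟩ := flat_lqf_of_range u g (fun y => (c y).2) hU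
  haveI := hf; haveI := hq
  haveI := mono_of_generic u g η₀ hη (hg₀ ▸ hK)
  let js := S.fromSpecResidueField s
  let js' : Spec (S.residueField s) ⟶ U.toScheme := IsOpenImmersion.lift U.ι js (by
    rw [Scheme.Opens.range_ι, Scheme.range_fromSpecResidueField]
    exact Set.singleton_subset_iff.2 hsU)
  obtain ⟨js'', hjs''⟩ := H17.exists_lift_of_range_subset js' c (by
    rintro _ ⟨z, rfl⟩
    rw [hrange, show js' z = (⟨s, hsU⟩ : U) from Subtype.ext (by
      show U.ι (js' z) = s
      rw [← Scheme.Hom.comp_apply, IsOpenImmersion.lift_fac]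
      exact Scheme.fromSpecResidueField_apply s z), ← specializes_iff_mem_closure, subtype_specializes_iff]
    exact hts)
  have hfac : js'' ≫ g = js := by rw [← Category.assoc, hjs'', IsOpenImmersion.lift_fac]
  haveI : Mono ((Over.pullback js).map u).left := hfac ▸ mono_of_factor u g js''
  haveI : Flat ((Over.pullback js).map u).left :=
    (flat_lqf_of_range u js (fun y => by rw [Scheme.fromSpecResidueField_apply]; exact hsU) hU).1
  haveI : LocallyOfFinitePresentation ((Over.pullback js).obj G).hom :=
    inferInstanceAs (LocallyOfFinitePresentation (pullback.snd G.hom js))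
  haveI : LocallyOfFiniteType ((Over.pullback js).obj H).hom :=
    inferInstanceAs (LocallyOfFiniteType (pullback.snd H.hom js))
  haveI := H19Grp.locallyOfFinitePresentation_left ((Over.pullback js).map u)
  exact IsOpenImmersion.of_flat_of_mono _

/-- With a generic point, the homomorphism is an open immersion near `s`. -/
theorem exists_nhd_isOpenImmersion (ht : ∀ x : S, t ⤳ x) (hs : SGA7.FibreUnipotentRankZero s G)
    (hiso : SGA7.IsIsogenyOver (SGA7.fibreHom t u)) (hK : H21Diag.KerTriv u t) :
    ∃ U : S.Opens, s ∈ U ∧ IsOpenImmersion ((Over.pullback U.ι).map u).left := by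
  obtain ⟨U, hsU, hU⟩ := exists_nhd_loci u (ht s) hs hiso
  obtain ⟨hf, hq⟩ := flat_lqf_of_range u U.ι (fun y => y.2) hU
  haveI := hf; haveI := hq
  let t' : U := ⟨t, (ht s).mem_open U.2 hsU⟩
  haveI := mono_of_generic u U.ι t' (fun y => (subtype_specializes_iff _ _).2 (ht y.1)) hK
  haveI : LocallyOfFinitePresentation ((Over.pullback U.ι).obj G).hom :=
    inferInstanceAs (LocallyOfFinitePresentation (pullback.snd G.hom U.ι))
  haveI : LocallyOfFiniteType ((Over.pullback U.ι).obj H).hom :=
    inferInstanceAs (LocallyOfFiniteType (pullback.snd H.hom U.ι))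
  haveI := H19Grp.locallyOfFinitePresentation_left ((Over.pullback U.ι).map u)
  exact ⟨U, hsU, IsOpenImmersion.of_flat_of_mono _⟩

end Groth.Agent.H28SemiAb
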