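import Groth.Agent.H28SemiAb.MonoNhd
import Groth.Agent.H28Neron.ComponentTorsion

/-!
# Generic isomorphisms out of groups of unipotent rank zero over a domain
-/

set_option autoImplicit false
set_option linter.style.haveILetI false
set_option linter.unusedSectionVars false
set_option backward.isDefEq.respectTransparency false
set_option backward.isDefEq.respectTransparency.types false
set_option maxHeartbeats 1000000
set_option synthInstance.maxHeartbeats 200000
universe u

open CategoryTheory CategoryTheory.Limits MonoidalCategory CartesianMonoidalCategory MonObj AlgebraicGeometry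
open Groth.Agent

noncomputable section

namespace Groth.Agent.H28SemiAb

attribute [local instance] Functor.grpObjObj
attribute [local instance 2000] Hom.group Hom.monoid

/-- A property stable under base change passes to base changes along factoring maps. -/
theorem prop_of_factor (P : MorphismProperty Scheme.{u}) [P.IsStableUnderBaseChange] {X Y X' Y' X'' Y'' : Scheme.{u}}
    {f : X ⟶ Y} {a : X' ⟶ X} {f' : X' ⟶ Y'} {b : Y' ⟶ Y} (hP : IsPullback a f' f b) (h : P f')
    {a'' : X'' ⟶ X} {f'' : X'' ⟶ Y''} {b'' : Y'' ⟶ Y} (h2 : IsPullback a'' f'' f b'') (l : Y'' ⟶ Y')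
    (hl : l ≫ b = b'') : P f'' := by
  subst hl
  have h3 := (IsPullback.of_hasPullback f' l).paste_horiz hP
  rw [← h2.isoIsPullback_hom_snd _ _ h3]
  exact (P.cancel_left_of_respectsIso _ _).2 (MorphismProperty.pullback_snd _ _ h)

/-- Properties of the map induced on base changes pass to further base changes. -/
theorem prop_map_of_factor (P : MorphismProperty Scheme.{u}) [P.IsStableUnderBaseChange] {S T T' : Scheme.{u}}
    {G H : Over S} (u : G ⟶ H) (g : T ⟶ S) (g' : T' ⟶ S) (l : T' ⟶ T) (hl : l ≫ g = g')
    (h : P ((Over.pullback g).map u).left) : P ((Over.pullback g').map u).left :=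
  prop_of_factor P (H19Grp.isPullback_map g u) h (H19Grp.isPullback_map g' u)
    (pullback.lift (pullback.fst _ _) (pullback.snd _ _ ≫ l) (by rw [pullback.condition, Category.assoc, hl]))
    (pullback.lift_fst _ _ _)

/-- A group with a monomorphism to a commutative group is commutative. -/
theorem isCommMonObj_of_mono {C : Type*} [Category C] [CartesianMonoidalCategory C] [BraidedCategory C] {A B : C}
    [GrpObj A] [GrpObj B] [IsCommMonObj B] (f : A ⟶ B) [IsMonHom f] [Mono f] : IsCommMonObj A := by
  refine ⟨(cancel_mono f).1 ?_⟩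
  rw [Category.assoc, IsMonHom.mul_hom, ← BraidedCategory.braiding_naturality_assoc, IsCommMonObj.mul_comm]

/-- A homomorphism of groups over a domain which is generically an isomorphism is an open immersion
when the source has unipotent rank zero fibres. -/
theorem isOpenImmersion_of_genFib {R K : Type u} [CommRing R] [IsDomain R] [Field K] [Algebra R K]
    [IsFractionRing R K] {G H : Over (Spec (CommRingCat.of R))} [GrpObj G] [IsCommMonObj G] [Flat G.hom]
    [IsSeparated G.hom] [LocallyOfFinitePresentation G.hom] [QuasiCompact G.hom] [GrpObj H] [Smooth H.hom]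
    (hG : SGA7.FibresUnipotentRankZero G) (u : G ⟶ H) [IsMonHom u] [hu : IsIso ((SGA7.genFib R K).map u)] :
    IsOpenImmersion u.left := by
  let S := Spec (CommRingCat.of R)
  let j : Spec (CommRingCat.of K) ⟶ S := Spec.map (CommRingCat.ofHom (algebraMap R K))
  let t : S := j (IsLocalRing.closedPoint K)
  have hbot : (t : PrimeSpectrum R).asIdeal = ⊥ := by
    show (IsLocalRing.maximalIdeal K).comap (algebraMap R K) = ⊥
    rw [IsLocalRing.maximalIdeal_eq_bot]
    exact (RingHom.injective_iff_ker_eq_bot _).1 (IsFractionRing.injective R K)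
  have ht : ∀ x : S, t ⤳ x := fun x => by
    refine (PrimeSpectrum.le_iff_specializes t x).1 ?_
    show (t : PrimeSpectrum R).asIdeal ≤ (x : PrimeSpectrum R).asIdeal
    rw [hbot]; exact bot_le
  let jt := S.fromSpecResidueField t
  obtain ⟨φ, hφ⟩ : ∃ φ, Spec.map φ = jt := Spec.map_surjective _
  have hinj : Function.Injective φ.hom := by
    rw [RingHom.injective_iff_ker_eq_bot]
    refine Eq.trans ?_ hbot
    have h := congrArg (fun f => f.base (IsLocalRing.closedPoint (S.residueField t))) hφ
    have h2 : PrimeSpectrum.comap φ.hom (IsLocalRing.closedPoint (S.residueField t)) = (t : PrimeSpectrum R) :=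
      h.trans (Scheme.fromSpecResidueField_apply t _)
    refine Eq.trans ?_ (congrArg PrimeSpectrum.asIdeal h2)
    show RingHom.ker φ.hom = (IsLocalRing.maximalIdeal (S.residueField t)).comap φ.hom
    rw [IsLocalRing.maximalIdeal_eq_bot]
    rfl
  obtain ⟨ψ, hψ⟩ : ∃ ψ : K →+* (S.residueField t : Type u), ψ.comp (algebraMap R K) = φ.hom :=
    ⟨IsFractionRing.lift (K := K) hinj, IsLocalization.lift_comp _⟩
  let l : Spec (S.residueField t) ⟶ Spec (CommRingCat.of K) := Spec.map (CommRingCat.ofHom ψ)
  have hl : l ≫ j = jt := by
    rw [← hφ, ← Spec.map_comp]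
    exact congrArg Spec.map (CommRingCat.hom_ext hψ)
  haveI h1 : IsIso ((Over.pullback j).map u) := hu
  haveI h0 : IsIso ((Over.pullback j).map u).left := by
    change IsIso ((Over.forget (Spec (CommRingCat.of K))).map ((Over.pullback j).map u))
    infer_instance
  haveI : IsIso ((Over.pullback jt).map u).left :=
    prop_map_of_factor (MorphismProperty.isomorphisms Scheme) u j jt l hl h0
  haveI : IsIso ((Over.forget (Spec (S.residueField t))).map ((Over.pullback jt).map u)) := ‹_›
  haveI : IsIso ((Over.pullback jt).map u) := isIso_of_reflects_iso _ (Over.forget _)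
  have hiso : SGA7.IsIsogenyOver (SGA7.fibreHom t u) := by
    refine ⟨inferInstanceAs (Surjective ((Over.pullback jt).map u).left), fun M i hM => ?_⟩
    have h2 : IsFinite (CartesianMonoidalCategory.toUnit M).left := MorphismProperty.of_isPullback (P := @IsFinite)
      (hM.map (Over.forget _)) (inferInstanceAs (IsFinite ((Over.pullback jt).map u).left))
    rw [show M.hom = (CartesianMonoidalCategory.toUnit M).left from
      ((Over.w (CartesianMonoidalCategory.toUnit M)).symm.trans (Category.comp_id _))]
    exact h2
  have hK := kerTriv_of_mono u t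
  choose U hU hUo using fun s => exists_nhd_isOpenImmersion u ht (hG s) hiso hK
  refine IsZariskiLocalAtTarget.of_iSup_eq_top (P := @IsOpenImmersion) (fun s => H.hom ⁻¹ᵁ U s)
    (top_le_iff.1 fun y _ => TopologicalSpace.Opens.mem_iSup.2 ⟨H.hom y, hU _⟩) fun s => ?_
  have hr : Set.range (H.hom ⁻¹ᵁ U s).ι ⊆ Set.range (pullback.fst H.hom (U s).ι) := by
    rw [Scheme.Opens.range_ι, Scheme.Pullback.range_fst, Scheme.Opens.range_ι]
    exact Set.Subset.rfl
  exact prop_of_factor @IsOpenImmersion (H19Grp.isPullback_map (U s).ι u) (hUo s)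
    (isPullback_morphismRestrict u.left (H.hom ⁻¹ᵁ U s)).flip
    (IsOpenImmersion.lift _ _ hr) (IsOpenImmersion.lift_fac _ _ hr)

end Groth.Agent.H28SemiAb
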