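import Groth.Agent.H28SemiAb.IsogenyNhd
import Groth.Agent.H28SemiAb.GaHom
import Groth.Agent.H28SemiAb.Descend
import Groth.Agent.H28SemiAb.NeronNhd
import Groth.Agent.H28Neron.SmoothDim

/-!
# Multiplication by an integer: the generic fibre
-/

set_option autoImplicit false
set_option linter.style.haveILetI false
set_option linter.unusedSectionVars false
set_option backward.isDefEq.respectTransparency false
set_option backward.isDefEq.respectTransparency.types false
set_option maxHeartbeats 1000000
set_option synthInstance.maxHeartbeats 200000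
universe u

open CategoryTheory CategoryTheory.Limits MonoidalCategory CartesianMonoidalCategory MonObj AlgebraicGeometry
open Groth.Agent

noncomputable section

namespace Groth.Agent.H28SemiAb

attribute [local instance] Functor.grpObjObj
attribute [local instance 2000] Hom.group Hom.monoid

theorem isMonHom_pow' {C : Type*} [Category C] [CartesianMonoidalCategory C] [BraidedCategory C] {G : C}
    [GrpObj G] [IsCommMonObj G] (n : ℕ) : IsMonHom ((𝟙 G) ^ n : G ⟶ G) :=
  WittGrp.isMonHom_of_comp_mul _ (by rw [MonObj.comp_pow, Category.comp_id, one_pow]) fun T a b => by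
    simp only [MonObj.comp_pow, Category.comp_id, mul_pow]

/-- The additive group has infinitely many points. -/
theorem infinite_ga {k : Type u} [Field k] [IsAlgClosed k] : Infinite (Red.Ga (Spec (CommRingCat.of k))).left := by
  obtain ⟨e, -⟩ := H20DimOne.exists_isoLine (k := k)
  haveI : IsIso e.hom.left := inferInstanceAs (IsIso ((Over.forget _).map e.hom))
  let f : k → (H20Mu.Pl k).left := fun a => (⟨Ideal.span {Polynomial.X - Polynomial.C a},
    (Ideal.span_singleton_prime (Polynomial.X_sub_C_ne_zero a)).2 (Polynomial.prime_X_sub_C a)⟩ :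
    PrimeSpectrum (Polynomial k))
  haveI : Infinite (H20Mu.Pl k).left := Infinite.of_injective f fun a b h => by
    have h1 : Ideal.span {Polynomial.X - Polynomial.C a} = Ideal.span {Polynomial.X - Polynomial.C b} :=
      congrArg PrimeSpectrum.asIdeal h
    have h2 : Polynomial.X - Polynomial.C b ∣ Polynomial.X - Polynomial.C a :=
      Ideal.mem_span_singleton.1 (h1 ▸ Ideal.mem_span_singleton_self _)
    have h3 := Polynomial.dvd_iff_isRoot.1 h2
    simp only [Polynomial.IsRoot.def, Polynomial.eval_sub, Polynomial.eval_X, Polynomial.eval_C] at h3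
    exact (sub_eq_zero.1 h3).symm
  exact Infinite.of_injective _ e.hom.left.homeomorph.injective

/-- A proper group has no additive subgroup. -/
theorem noGa_of_isProper {k : Type u} [Field k] [IsAlgClosed k] (A : Over (Spec (CommRingCat.of k))) [GrpObj A]
    [IsProper A.hom] : NoGa A := fun j _ hjc => by
  haveI := hjc
  obtain ⟨-, haff, -, -⟩ := ga_facts (k := k)
  haveI := haff
  haveI : IsProper (Red.Ga (Spec (CommRingCat.of k))).hom := by rw [← Over.w j]; infer_instance
  haveI : IsFinite (Red.Ga (Spec (CommRingCat.of k))).hom := IsFinite.iff_isProper_and_isAffineHom.2 ⟨inferInstance, inferInstance⟩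
  haveI := infinite_ga (k := k)
  exact Set.infinite_univ (((Red.Ga (Spec (CommRingCat.of k))).hom.finite_preimage_singleton
    (IsLocalRing.closedPoint k)).subset fun z _ => Subsingleton.elim (α := PrimeSpectrum k) _ _)

/-- Properties descending along fpqc maps descend from base changes of induced maps. -/
theorem prop_map_descend (P : MorphismProperty Scheme.{u}) [P.DescendsAlong H18Descent.fpqc]
    {S T T' : Scheme.{u}} {G H : Over S} (u : G ⟶ H) (g : T ⟶ S) (l : T' ⟶ T) (hl : H18Descent.fpqc l)
    (h : P ((Over.pullback (l ≫ g)).map u).left) : P ((Over.pullback g).map u).left := by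
  have hc : ∀ X : Over S, ∃ a : ((Over.pullback (l ≫ g)).obj X).left ⟶ ((Over.pullback g).obj X).left,
      a ≫ pullback.fst X.hom g = pullback.fst X.hom (l ≫ g) ∧
      IsPullback a (pullback.snd X.hom (l ≫ g)) (pullback.snd X.hom g) l := fun X => by
    refine ⟨pullback.lift (pullback.fst _ _) (pullback.snd _ _ ≫ l) (by rw [pullback.condition, Category.assoc]),
      pullback.lift_fst _ _ _, IsPullback.of_right ?_ (pullback.lift_snd _ _ _) (IsPullback.of_hasPullback X.hom g)⟩
    erw [pullback.lift_fst]
    exact IsPullback.of_hasPullback X.hom (l ≫ g)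
  obtain ⟨aG, hG1, hG⟩ := hc G
  obtain ⟨aH, hH1, hH⟩ := hc H
  have hw : ((Over.pullback g).map u).left ≫ pullback.snd H.hom g = pullback.snd G.hom g := Over.w _
  have hw' : ((Over.pullback (l ≫ g)).map u).left ≫ pullback.snd H.hom (l ≫ g) = pullback.snd G.hom (l ≫ g) :=
    Over.w _
  have sq : IsPullback aG ((Over.pullback (l ≫ g)).map u).left ((Over.pullback g).map u).left aH := by
    refine IsPullback.of_bot (by rw [hw', hw]; exact hG) ?_ hH
    refine pullback.hom_ext ?_ ?_
    · simp only [Over.pullback_map_left, Category.assoc, pullback.lift_fst, hH1]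
      rw [← Category.assoc, hG1]
    · simp only [Over.pullback_map_left, Category.assoc, pullback.lift_snd]
      rw [hG.w, hH.w, ← Category.assoc]
      simp [Over.pullback_map_left]
  have hq : H18Descent.fpqc aH := by
    obtain ⟨⟨h1, h2⟩, h3⟩ := hl
    exact ⟨⟨MorphismProperty.of_isPullback (P := @Surjective) hH.flip h1,
      MorphismProperty.of_isPullback (P := @Flat) hH.flip h2⟩,
      MorphismProperty.of_isPullback (P := @QuasiCompact) hH.flip h3⟩
  exact MorphismProperty.of_isPullback_of_descendsAlong (P := P) (Q := H18Descent.fpqc) sq.flip hq h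

/-- Multiplication by a positive integer is an isogeny on a fibre over a point lying over a field where
the group becomes an abelian variety. -/
theorem isIsogenyOver_pow_of_genFib {R K : Type u} [CommRing R] [IsDomain R] [Field K] [Algebra R K]
    [IsFractionRing R K] (G : Over (Spec (CommRingCat.of R))) [GrpObj G] [IsCommMonObj G] [Smooth G.hom]
    [QuasiCompact G.hom] [IsProper ((SGA7.genFib R K).obj G).hom]
    [GeometricallyIntegral ((SGA7.genFib R K).obj G).hom] {m : ℕ} (hm : 0 < m) :
    ∃ t : Spec (CommRingCat.of R), (∀ x, t ⤳ x) ∧ SGA7.IsIsogenyOver (SGA7.fibreHom t ((𝟙 G) ^ m : G ⟶ G)) := by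
  let S := Spec (CommRingCat.of R)
  let j : Spec (CommRingCat.of K) ⟶ S := Spec.map (CommRingCat.ofHom (algebraMap R K))
  let t : S := j (IsLocalRing.closedPoint K)
  have hbot : (t : PrimeSpectrum R).asIdeal = ⊥ := by
    show (IsLocalRing.maximalIdeal K).comap (algebraMap R K) = ⊥
    rw [IsLocalRing.maximalIdeal_eq_bot]
    exact (RingHom.injective_iff_ker_eq_bot _).1 (IsFractionRing.injective R K)
  refine ⟨t, fun x => (PrimeSpectrum.le_iff_specializes t x).1 (by
    show (t : PrimeSpectrum R).asIdeal ≤ (x : PrimeSpectrum R).asIdeal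
    rw [hbot]; exact bot_le), ?_⟩
  let jt := S.fromSpecResidueField t
  obtain ⟨φ, hφ⟩ : ∃ φ, Spec.map φ = jt := Spec.map_surjective _
  have hinj : Function.Injective φ.hom := by
    rw [RingHom.injective_iff_ker_eq_bot]
    refine Eq.trans ?_ hbot
    have h := congrArg (fun f => f.base (IsLocalRing.closedPoint (S.residueField t))) hφ
    have h2 : PrimeSpectrum.comap φ.hom (IsLocalRing.closedPoint (S.residueField t)) = (t : PrimeSpectrum R) :=
      h.trans (Scheme.fromSpecResidueField_apply t _)
    refine Eq.trans ?_ (congrArg PrimeSpectrum.asIdeal h2)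
    show RingHom.ker φ.hom = (IsLocalRing.maximalIdeal (S.residueField t)).comap φ.hom
    rw [IsLocalRing.maximalIdeal_eq_bot]
    rfl
  let Ω := AlgebraicClosure (S.residueField t)
  let r : Spec (CommRingCat.of Ω) ⟶ Spec (S.residueField t) :=
    Spec.map (CommRingCat.ofHom (algebraMap (S.residueField t) Ω))
  obtain ⟨ψ, hψ⟩ : ∃ ψ : K →+* (S.residueField t : Type u), ψ.comp (algebraMap R K) = φ.hom :=
    ⟨IsFractionRing.lift (K := K) hinj, IsLocalization.lift_comp _⟩
  let l : Spec (CommRingCat.of Ω) ⟶ Spec (CommRingCat.of K) := r ≫ Spec.map (CommRingCat.ofHom ψ)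
  have hl : l ≫ j = r ≫ jt := by
    show (r ≫ _) ≫ j = r ≫ jt
    rw [Category.assoc, ← hφ]
    congr 1
    rw [← Spec.map_comp]
    exact congrArg Spec.map (CommRingCat.hom_ext hψ)
  let A : Over (Spec (CommRingCat.of Ω)) := (Over.pullback (r ≫ jt)).obj G
  have sq : IsPullback (pullback.lift (pullback.fst G.hom (r ≫ jt)) (pullback.snd G.hom (r ≫ jt) ≫ l)
      (by rw [pullback.condition, Category.assoc, hl])) (pullback.snd G.hom (r ≫ jt)) (pullback.snd G.hom j) l := by
    refine IsPullback.of_right ?_ (pullback.lift_snd _ _ _) (IsPullback.of_hasPullback G.hom j)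
    erw [pullback.lift_fst, hl]
    exact IsPullback.of_hasPullback G.hom (r ≫ jt)
  haveI : IsProper A.hom := MorphismProperty.of_isPullback (P := @IsProper) sq
    (inferInstanceAs (IsProper ((SGA7.genFib R K).obj G).hom))
  haveI : GeometricallyIntegral A.hom := MorphismProperty.of_isPullback (P := @GeometricallyIntegral) sq
    (inferInstanceAs (GeometricallyIntegral ((SGA7.genFib R K).obj G).hom))
  haveI : IsIntegral A.left := GeometricallyIntegral.isIntegral_of_subsingleton A.hom
  haveI : Smooth A.hom := inferInstanceAs (Smooth (pullback.snd G.hom (r ≫ jt)))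
  haveI : IsCommMonObj A := inferInstance
  have hNo := noGa_of_isProper A
  have hmap : (Over.pullback (r ≫ jt)).map ((𝟙 G) ^ m : G ⟶ G) = ((𝟙 A) ^ m : A ⟶ A) :=
    (map_pow (Functor.homMonoidHom (Over.pullback (r ≫ jt))) _ m).trans (congrArg (fun x : A ⟶ A => x ^ m) ((Over.pullback (r ≫ jt)).map_id G))
  have h1 : IsFinite ((Over.pullback (r ≫ jt)).map ((𝟙 G) ^ m : G ⟶ G)).left := by
    rw [hmap]; exact isFinite_pow A hNo hm
  have h2 : Surjective ((Over.pullback (r ≫ jt)).map ((𝟙 G) ^ m : G ⟶ G)).left := by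
    rw [hmap]; exact (surjective_flat_pow A hNo hm).1
  have hr : H18Descent.fpqc r := by
    obtain ⟨a, b, c⟩ := fpqc_field (k := (S.residueField t : Type u)) (Ω := Ω) r
    exact ⟨⟨a, b⟩, c⟩
  refine ⟨prop_map_descend @Surjective _ jt r hr h2, fun M i hM => ?_⟩
  have h3 := prop_map_descend @IsFinite ((𝟙 G) ^ m : G ⟶ G) jt r hr h1
  rw [show M.hom = (CartesianMonoidalCategory.toUnit M).left from
    ((Over.w (CartesianMonoidalCategory.toUnit M)).symm.trans (Category.comp_id _))]
  exact MorphismProperty.of_isPullback (P := @IsFinite) (hM.map (Over.forget _)) h3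

/-- A locally quasi-finite power map forbids additive subgroups at the characteristic. -/
theorem noGa_of_lqf_pow {k : Type u} [Field k] [IsAlgClosed k] (A : Over (Spec (CommRingCat.of k))) [GrpObj A]
    [IsSeparated A.hom] [QuasiCompact A.hom] {m : ℕ} (hm : (m : k) = 0)
    [LocallyQuasiFinite ((𝟙 A) ^ m : A ⟶ A).left] : NoGa A := fun j hj hjc => by
  haveI := hjc
  haveI := hj
  let L := Red.Ga (Spec (CommRingCat.of k))
  have hk : (𝟙 L : L ⟶ L) ^ m = 1 := by
    refine H27Witt.GaCoord.gaFn_injective ?_
    have hp : ∀ n : ℕ, H20DimOne.gf ((𝟙 L : L ⟶ L) ^ n) = n • H20DimOne.gf (𝟙 L) := fun n => by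
      induction n with
      | zero => rw [pow_zero, zero_smul]; exact H27Witt.GaCoord.gaFn_one
      | succ n ih => rw [pow_succ, H20DimOne.gf_mul, ih, succ_nsmul]
    refine (hp m).trans (Eq.trans ?_ H27Witt.GaCoord.gaFn_one.symm)
    rw [← Nat.cast_smul_eq_nsmul k, hm, zero_smul]
  have hcomp : j ≫ ((𝟙 A) ^ m : A ⟶ A) = toUnit L ≫ (1 : 𝟙_ _ ⟶ A) := by
    rw [MonObj.comp_one, MonObj.comp_pow, Category.comp_id, ← Category.id_comp j, ← MonObj.pow_comp, hk,
      MonObj.one_comp]
  haveI : QuasiCompact (((𝟙 A) ^ m : A ⟶ A).left ≫ A.hom) := by rw [Over.w]; infer_instance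
  haveI : QuasiCompact ((𝟙 A) ^ m : A ⟶ A).left := QuasiCompact.of_comp _ A.hom
  haveI := infinite_ga (k := k)
  refine Set.infinite_range_of_injective j.left.isEmbedding.injective
    ((((𝟙 A) ^ m : A ⟶ A).left.finite_preimage_singleton
      ((1 : 𝟙_ _ ⟶ A).left (IsLocalRing.closedPoint k))).subset ?_)
  rintro _ ⟨z, rfl⟩
  show ((𝟙 A) ^ m : A ⟶ A).left (j.left z) = _
  rw [← Scheme.Hom.comp_apply, ← Over.comp_left, hcomp, Over.comp_left, Scheme.Hom.comp_apply]
  exact congrArg (1 : 𝟙_ _ ⟶ A).left (Subsingleton.elim (α := PrimeSpectrum k) _ _)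

end Groth.Agent.H28SemiAb
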