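import Groth.Agent.H28SemiAb.NeronNhd
import Groth.Agent.H28SemiAb.GaHom
import Groth.Agent.H19Grp.QuasiFiniteHom

/-!
# Semistable reduction and the Néron model
-/

set_option autoImplicit false
set_option linter.style.haveILetI false
set_option linter.unusedSectionVars false
set_option backward.isDefEq.respectTransparency false
set_option backward.isDefEq.respectTransparency.types false
set_option maxHeartbeats 1000000
set_option synthInstance.maxHeartbeats 200000
universe u

open CategoryTheory CategoryTheory.Limits MonoidalCategory CartesianMonoidalCategory MonObj AlgebraicGeometry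
open Groth.Agent

noncomputable section

namespace Groth.Agent.H28SemiAb

attribute [local instance] Functor.grpObjObj
attribute [local instance 2000] Hom.group Hom.monoid

/-- A morphism out of a smooth group into a scheme with the mapping property is a homomorphism as soon
as its restriction to the generic fibre is one. -/
theorem isMonHom_of_map {S T : Scheme.{u}} (j : T ⟶ S) {G N : Over S} [GrpObj G] [GrpObj N] [Smooth G.hom]
    (hN : ∀ Y : Over S, Smooth Y.hom → Function.Injective fun g : Y ⟶ N => (Over.pullback j).map g)
    (u : G ⟶ N) [IsMonHom ((Over.pullback j).map u)] : IsMonHom u := by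
  haveI : Smooth (G ⊗ G).hom := by dsimp; infer_instance
  haveI : Smooth (𝟙_ (Over S)).hom := inferInstanceAs (Smooth (𝟙 S))
  refine WittGrp.isMonHom_of_comp_mul u ?_ fun W a b => ?_
  · refine hN _ inferInstance ?_
    simp only [Functor.map_comp, Functor.map_one, MonObj.one_comp]
  · have key : (fst G G * snd G G) ≫ u = (fst G G ≫ u) * (snd G G ≫ u) := by
      refine hN _ inferInstance ?_
      simp only [Functor.map_comp, Functor.map_mul, MonObj.mul_comp]
    have h := congrArg (lift a b ≫ ·) key
    simp only [← Category.assoc, MonObj.comp_mul, lift_fst, lift_snd] at h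
    exact h

/-- Unipotent rank zero passes along open immersions of groups to the target. -/
theorem fibresUnipotentRankZero_of_open {S : Scheme.{u}} {G N : Over S} [GrpObj G] [GrpObj N]
    [QuasiCompact G.hom] [LocallyOfFiniteType G.hom] [LocallyOfFiniteType N.hom] (u : G ⟶ N) [IsMonHom u]
    [IsOpenImmersion u.left] (hG : SGA7.FibresUnipotentRankZero G) : SGA7.FibresUnipotentRankZero N := by
  intro s j hj hjc
  haveI := hj; haveI := hjc
  let Ω := AlgebraicClosure (S.residueField s)
  let g : Spec (CommRingCat.of Ω) ⟶ S := Red.geomPt s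
  let F := Over.pullback g
  let v := F.map u
  haveI : IsOpenImmersion v.left :=
    MorphismProperty.of_isPullback (P := @IsOpenImmersion) (H19Grp.isPullback_map g u) ‹_›
  haveI : LocallyOfFiniteType (F.obj G).hom := inferInstanceAs (LocallyOfFiniteType (pullback.snd G.hom g))
  haveI : QuasiCompact (F.obj G).hom := inferInstanceAs (QuasiCompact (pullback.snd G.hom g))
  haveI : LocallyOfFiniteType (F.obj N).hom := inferInstanceAs (LocallyOfFiniteType (pullback.snd N.hom g))
  haveI : IsSeparated (F.obj N).hom := H19Grp.AffineQuotient.isSeparated_of_grp _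
  haveI : QuasiCompact (v.left ≫ (F.obj N).hom) := by rw [Over.w v]; infer_instance
  haveI : QuasiCompact v.left := QuasiCompact.of_comp _ (F.obj N).hom
  haveI : IsClosedImmersion v.left := H19Grp.QuasiFiniteHom.isClosedImmersion_of_mono v
  haveI : ConnectedSpace (Red.Ga (Spec (CommRingCat.of Ω))).left := (ga_facts (k := Ω)).2.2.1
  have hcl : IsClopen (j.left ⁻¹' Set.range v.left) :=
    ⟨(v.left.isClosedEmbedding.isClosed_range).preimage j.left.continuous,
      (v.left.isOpenEmbedding.isOpen_range).preimage j.left.continuous⟩
  have hne : (η[Red.Ga (Spec (CommRingCat.of Ω))]).left (IsLocalRing.closedPoint Ω) ∈ j.left ⁻¹' Set.range v.left := by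
    refine ⟨η[F.obj G].left (IsLocalRing.closedPoint Ω), ?_⟩
    rw [← Scheme.Hom.comp_apply, ← Scheme.Hom.comp_apply, ← Over.comp_left, ← Over.comp_left,
      IsMonHom.one_hom v, IsMonHom.one_hom j]
  have huniv : j.left ⁻¹' Set.range v.left = Set.univ :=
    (isClopen_iff.1 hcl).resolve_left (Set.Nonempty.ne_empty ⟨_, hne⟩)
  let l := IsOpenImmersion.lift v.left j.left (by rintro _ ⟨z, rfl⟩; exact huniv.ge (Set.mem_univ z))
  have hl : l ≫ v.left = j.left := IsOpenImmersion.lift_fac _ _ _
  let j' : Red.Ga (Spec (CommRingCat.of Ω)) ⟶ F.obj G := Over.homMk l (by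
    rw [← Over.w v, ← Category.assoc, hl, Over.w j])
  have hj' : j' ≫ v = j := Over.OverMorphism.ext hl
  haveI : Mono v := Over.mono_of_mono_left v
  haveI : IsMonHom j' := by
    constructor
    · rw [← cancel_mono v, Category.assoc, hj', IsMonHom.one_hom v, IsMonHom.one_hom j]
    · rw [← cancel_mono v, Category.assoc, hj', IsMonHom.mul_hom j, Category.assoc, IsMonHom.mul_hom v,
        ← Category.assoc, tensorHom_comp_tensorHom, hj']
  refine hG s j' inferInstance ?_
  haveI : IsClosedImmersion (j'.left ≫ v.left) := by rw [← Over.comp_left, hj']; infer_instance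
  exact IsClosedImmersion.of_comp j'.left v.left

end Groth.Agent.H28SemiAb
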