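import Groth.Agent.H28SemiAb.MulFlat
import Groth.Agent.H19Grp.FibreLoci

/-!
# Multiplication by an integer is quasi-finite where it is invertible or the unipotent rank vanishes
-/

set_option autoImplicit false
set_option linter.style.haveILetI false
set_option backward.isDefEq.respectTransparency false
set_option backward.isDefEq.respectTransparency.types false
set_option maxHeartbeats 1000000
universe u

open CategoryTheory CategoryTheory.Limits MonoidalCategory CartesianMonoidalCategory MonObj AlgebraicGeometry
open Groth.Agent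

noncomputable section

namespace Groth.Agent.H28SemiAb

attribute [local instance] Functor.grpObjObj
attribute [local instance 2000] Hom.group Hom.monoid

theorem lqf_pow {S : Scheme.{u}} (G : Over S) [GrpObj G] [IsCommMonObj G] [LocallyOfFiniteType G.hom]
    [QuasiCompact G.hom] {n : ℕ} (hn : 0 < n)
    (h : ∀ s : S, (n : S.residueField s) = 0 → SGA7.FibreUnipotentRankZero s G) :
    LocallyQuasiFinite ((𝟙 G) ^ n : G ⟶ G).left := by
  haveI := isMonHom_pow' (G := G) n
  haveI : LocallyOfFiniteType (((𝟙 G) ^ n : G ⟶ G).left ≫ G.hom) := by rw [Over.w]; infer_instance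
  haveI : LocallyOfFiniteType ((𝟙 G) ^ n : G ⟶ G).left := locallyOfFiniteType_of_comp _ G.hom
  have hG : ∀ y : S, LocallyOfFiniteType (G.hom.fiberToSpecResidueField y) := fun y =>
    MorphismProperty.pullback_snd (P := @LocallyOfFiniteType) _ _ inferInstance
  obtain ⟨-, hQe⟩ := H19Grp.isOpen_quasiFinite_and_eq ((𝟙 G) ^ n : G ⟶ G) hG
  refine H19Grp.of_forall_onNhd @LocallyQuasiFinite _ fun x => hQe.ge ?_
  let s : S := G.hom x
  show LocallyQuasiFinite ((Over.pullback (S.fromSpecResidueField s)).map ((𝟙 G) ^ n : G ⟶ G)).left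
  let Ω := AlgebraicClosure (S.residueField s)
  let r : Spec (CommRingCat.of Ω) ⟶ Spec (S.residueField s) :=
    Spec.map (CommRingCat.ofHom (algebraMap (S.residueField s) Ω))
  let g : Spec (CommRingCat.of Ω) ⟶ S := r ≫ S.fromSpecResidueField s
  let A : Over (Spec (CommRingCat.of Ω)) := (Over.pullback g).obj G
  haveI : LocallyOfFiniteType A.hom := inferInstanceAs (LocallyOfFiniteType (pullback.snd G.hom g))
  haveI : QuasiCompact A.hom := inferInstanceAs (QuasiCompact (pullback.snd G.hom g))
  haveI : IsCommMonObj A := inferInstance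
  have hmap : (Over.pullback g).map ((𝟙 G) ^ n : G ⟶ G) = ((𝟙 A) ^ n : A ⟶ A) :=
    (map_pow (Functor.homMonoidHom (Over.pullback g)) _ n).trans
      (congrArg (fun y : A ⟶ A => y ^ n) ((Over.pullback g).map_id G))
  have h1 : IsFinite ((Over.pullback g).map ((𝟙 G) ^ n : G ⟶ G)).left := by
    rw [hmap]
    by_cases hns : (n : S.residueField s) = 0
    · exact isFinite_pow A (fun j hj hjc => h s hns j hj hjc) hn
    · haveI := isMonHom_pow (G := A) n
      refine H19Chev.isFinite_of_finite_ker _ ((finite_torsion_invertible A (n := n) ?_).subset fun y hy => ?_)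
      · rw [← map_natCast (algebraMap (S.residueField s) Ω) n]
        exact (map_ne_zero _).2 hns
      · show y ^ n = 1
        rw [← comp_id_pow]; exact hy
  have hr : H18Descent.fpqc r := by
    obtain ⟨a, b, c⟩ := fpqc_field (k := (S.residueField s : Type u)) (Ω := Ω) r
    exact ⟨⟨a, b⟩, c⟩
  haveI := prop_map_descend @IsFinite ((𝟙 G) ^ n : G ⟶ G) (S.fromSpecResidueField s) r hr h1
  infer_instance

end Groth.Agent.H28SemiAb

namespace Groth.Agent.H28SemiAb

/-- An integer prime to the residue characteristic is invertible at every point of a trait. -/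
theorem natCast_ne_zero_of_dvr {R : Type u} [CommRing R] [IsDomain R] [IsDiscreteValuationRing R]
    (s : Spec (CommRingCat.of R)) {n : ℕ} (hp : ¬ ringChar (IsLocalRing.ResidueField R) ∣ n) :
    (n : (Spec (CommRingCat.of R)).residueField s) ≠ 0 := by
  have hu : IsUnit (n : R) := by
    by_contra hu
    refine hp (ringChar.dvd ?_)
    rw [← map_natCast (IsLocalRing.residue R) n, IsLocalRing.residue_eq_zero_iff]
    exact (IsLocalRing.mem_maximalIdeal _).2 hu
  obtain ⟨φ, -⟩ := Spec.map_surjective ((Spec (CommRingCat.of R)).fromSpecResidueField s)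
  have := hu.map φ.hom
  rw [map_natCast] at this
  exact this.ne_zero

end Groth.Agent.H28SemiAb
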