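import Groth.Agent.H28SemiAb.Descend
import Groth.Agent.H19Grp.GroupCI
import Groth.Agent.H19Grp.CommOrder

/-!
# In characteristic p some multiplication factors through the reduced subgroup

(Copied from `H19SemiAb.Image` to avoid its imports.)
-/

set_option autoImplicit false
set_option linter.style.haveILetI false
set_option backward.isDefEq.respectTransparency false
set_option backward.isDefEq.respectTransparency.types false
set_option maxHeartbeats 1000000
set_option synthInstance.maxHeartbeats 400000
universe u

open CategoryTheory CategoryTheory.Limits MonoidalCategory CartesianMonoidalCategory MonObj AlgebraicGeometry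
open Groth.Agent Groth.Agent.H25AbCube Groth.Agent.H19Quot

noncomputable section

namespace Groth.Agent.H28SemiAb

attribute [local instance] Functor.grpObjObj
attribute [local instance 2000] Hom.group Hom.monoid

variable {k : Type u} [Field k]

local notation "Pts" X => 𝟙_ (Over (Spec (CommRingCat.of k))) ⟶ X

/-- A finite commutative group is killed by a positive integer. -/
theorem exists_pow_eq_one_of_finite (C : Over (Spec (CommRingCat.of k))) [GrpObj C] [IsCommMonObj C] [IsFinite C.hom] :
    ∃ r : ℕ, 0 < r ∧ ((𝟙 C) ^ r : C ⟶ C) = 1 := by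
  haveI : IsNoetherianRing (CommRingCat.of k) := inferInstanceAs (IsNoetherianRing k)
  haveI : LocallyOfFinitePresentation C.hom := inferInstance
  haveI : Flat C.hom := inferInstance
  let pt : Spec (CommRingCat.of k) := IsLocalRing.closedPoint k
  refine ⟨C.hom.finrank pt, ?_, H19Grp.CommOrder.id_pow_eq_one C (C.hom.finrank pt) fun s =>
    congrArg C.hom.finrank (Subsingleton.elim (α := PrimeSpectrum k) s pt)⟩
  have h1 := Scheme.Hom.one_le_finrank_map C.hom (η[C].left pt)
  rw [show C.hom (η[C].left pt) = pt from Subsingleton.elim (α := PrimeSpectrum k) _ _] at h1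
  exact h1

/-- A quotient all of whose rational points come from the kernel is finite. -/
theorem isFinite_of_pts [IsAlgClosed k] (Q : Over (Spec (CommRingCat.of k))) [GrpObj Q] [LocallyOfFiniteType Q.hom]
    [QuasiCompact Q.hom] (h : (Set.univ : Set (Pts Q)).Finite) : IsFinite Q.hom := by
  haveI : LocallyOfFiniteType (𝟙_ (Over (Spec (CommRingCat.of k)))).hom := inferInstanceAs (LocallyOfFiniteType (𝟙 _))
  haveI : QuasiCompact (𝟙_ (Over (Spec (CommRingCat.of k)))).hom := inferInstanceAs (QuasiCompact (𝟙 _))
  have hf : IsFinite (toUnit Q).left :=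
    H19Chev.isFinite_of_finite_ker (toUnit Q) (h.subset (Set.subset_univ _))
  rw [show (toUnit Q).left = Q.hom from (Category.comp_id _).symm.trans (Over.w (toUnit Q))] at hf
  exact hf

/-- Some multiplication factors through the reduced subgroup. -/
theorem exists_pow_factor_reduced [IsAlgClosed k] (G : Over (Spec (CommRingCat.of k))) [GrpObj G] [IsCommMonObj G]
    [LocallyOfFiniteType G.hom] [QuasiCompact G.hom] :
    ∃ (m : ℕ) (R : Over (Spec (CommRingCat.of k))) (_ : GrpObj R) (rr : R ⟶ G) (d : G ⟶ R),
      0 < m ∧ IsMonHom rr ∧ IsClosedImmersion rr.left ∧ IsReduced R.left ∧ Surjective rr.left ∧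
        d ≫ rr = (𝟙 G) ^ m := by
  obtain ⟨gR, hrr⟩ := H19Grp.GroupCI.exists_grpObj_reduced G
  let R : Over (Spec (CommRingCat.of k)) := Over.mk (G.left.nilradical.subschemeι ≫ G.hom)
  let rr : R ⟶ G := Over.homMk G.left.nilradical.subschemeι rfl
  haveI : IsMonHom rr := hrr
  haveI : IsClosedImmersion rr.left := inferInstanceAs (IsClosedImmersion G.left.nilradical.subschemeι)
  haveI : IsReduced R.left := inferInstanceAs (IsReduced G.left.nilradical.subscheme)
  haveI : Surjective rr.left := ⟨fun x => by
    have : Set.range G.left.nilradical.subschemeι = Set.univ := by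
      rw [Scheme.IdealSheafData.range_subschemeι, Scheme.support_nilradical]
      rfl
    exact this.ge trivial⟩
  haveI : LocallyOfFiniteType R.hom := by rw [← Over.w rr]; infer_instance
  obtain ⟨Q, gQ, q, hq, hQc, hQft, hqf, hqs, hqp, hk⟩ := AbelianCat.exists_cokernel rr ⟨inferInstance, inferInstance⟩
  haveI := hq; haveI := hQc; haveI := hqs; haveI := hQft.lft; haveI := hQft.qc
  haveI : IsFinite Q.hom := isFinite_of_pts Q ((Set.finite_singleton (1 : Pts Q)).subset fun y _ => by
    obtain ⟨x, rfl⟩ := H19Chev.exists_pt_lift q y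
    obtain ⟨r, rfl⟩ := H19Chev.exists_pt_lift rr x
    show (r ≫ rr) ≫ q = 1
    rw [Category.assoc, H19Grp.kernel_comp_eq_one hk, MonObj.comp_one])
  obtain ⟨m, hm, hmk⟩ := exists_pow_eq_one_of_finite Q
  obtain ⟨d, hd⟩ := H19Grp.kernel_lift hk ((𝟙 G) ^ m : G ⟶ G) (by
    rw [H19Chev.id_pow_comp, hmk, MonObj.comp_one])
  exact ⟨m, R, gR, rr, d, hm, inferInstance, inferInstance, inferInstance, inferInstance, hd⟩

end Groth.Agent.H28SemiAb
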