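import Groth.Agent.S5682
import Groth.Agent.H28SemiAb.MulFlat
import Groth.Agent.H19Chev.Complement
import Groth.Agent.H25Rig.GroupMaps
import Mathlib.AlgebraicGeometry.Group.Smooth

/-!
# Quasi-inverses of homomorphisms of abelian varieties
-/

set_option autoImplicit false
set_option linter.style.haveILetI false
set_option linter.unusedSectionVars false
set_option backward.isDefEq.respectTransparency false
set_option backward.isDefEq.respectTransparency.types false
set_option maxHeartbeats 1000000
set_option synthInstance.maxHeartbeats 200000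
universe u

open CategoryTheory CategoryTheory.Limits MonoidalCategory CartesianMonoidalCategory MonObj AlgebraicGeometry
open Groth.Agent

noncomputable section

namespace Groth.Agent.H28SemiAb

attribute [local instance] Functor.grpObjObj
attribute [local instance 2000] Hom.group Hom.monoid

variable {k : Type u} [Field k]

theorem smooth_av (A : Over (Spec (CommRingCat.of k))) [GrpObj A] [IsProper A.hom]
    [GeometricallyIntegral A.hom] : Smooth A.hom := by
  letI : GrpObj (Over.mk A.hom) := ‹GrpObj A›
  exact AlgebraicGeometry.smooth_of_grpObj A.hom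

theorem isMonHom_mul {G H : Over (Spec (CommRingCat.of k))} [GrpObj G] [GrpObj H] [IsCommMonObj H]
    (a b : G ⟶ H) [IsMonHom a] [IsMonHom b] : IsMonHom (a * b) :=
  WittGrp.isMonHom_of_comp_mul _ (by rw [MonObj.comp_mul, MonObj.one_comp, MonObj.one_comp, _root_.one_mul])
    fun T x y => by
    rw [MonObj.comp_mul, MonObj.comp_mul, MonObj.comp_mul, MonObj.mul_comp, MonObj.mul_comp]
    exact mul_mul_mul_comm _ _ _ _

theorem isMonHom_inv {G H : Over (Spec (CommRingCat.of k))} [GrpObj G] [GrpObj H] [IsCommMonObj H]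
    (a : G ⟶ H) [IsMonHom a] : IsMonHom (a⁻¹) :=
  WittGrp.isMonHom_of_comp_mul _ (by rw [GrpObj.comp_inv, MonObj.one_comp, inv_one])
    fun T x y => by
    rw [GrpObj.comp_inv, GrpObj.comp_inv, GrpObj.comp_inv, MonObj.mul_comp, mul_inv]

/-- A projection to an abelian subvariety of a commutative group, as a homomorphism. -/
theorem exists_hom_projection {G A : Over (Spec (CommRingCat.of k))} [GrpObj G] [GrpObj A] [IsCommMonObj A]
    [IsProper G.hom] [GeometricallyIntegral G.hom] [Smooth A.hom] [IsProper A.hom] [ConnectedSpace A.left]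
    (i : A ⟶ G) [IsMonHom i] [IsClosedImmersion i.left] :
    ∃ (φ : G ⟶ A) (n : ℕ), 0 < n ∧ IsMonHom φ ∧ i ≫ φ = (𝟙 A) ^ n := by
  haveI := smooth_av G
  haveI : IsIntegral G.left := GeometricallyIntegral.isIntegral_of_subsingleton G.hom
  obtain ⟨φ, n, hn, hφ⟩ := H19Chev.exists_projection i
  let c : 𝟙_ (Over (Spec (CommRingCat.of k))) ⟶ A := 1 ≫ φ
  refine ⟨φ * (toUnit G ≫ c⁻¹), n, hn, ?_, ?_⟩
  · refine H25Rig.isMonHom_of_one_hom _ ?_
    rw [MonObj.comp_mul, ← Category.assoc, toUnit_unique (η[G] ≫ toUnit G) (𝟙 _), Category.id_comp,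
      MonObj.one_eq_one, MonObj.one_eq_one]
    exact mul_inv_cancel c
  · have h := hφ A 1 (𝟙 A)
    rw [_root_.one_mul, Category.id_comp] at h
    rw [MonObj.comp_mul, h, ← Category.assoc, toUnit_unique (i ≫ toUnit G) (toUnit A),
      show (1 : A ⟶ G) ≫ φ = toUnit A ≫ c by rw [← Category.assoc, MonObj.comp_one],
      mul_comm (toUnit A ≫ c), _root_.mul_assoc, ← MonObj.comp_mul, mul_inv_cancel, MonObj.comp_one, _root_.mul_one]

/-- A homomorphism of abelian varieties has a quasi-inverse. -/
theorem exists_quasi_inverse (A B : Over (Spec (CommRingCat.of k))) [GrpObj A] [GrpObj B] [IsProper A.hom]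
    [GeometricallyIntegral A.hom] [IsProper B.hom] [GeometricallyIntegral B.hom] (u : A ⟶ B) [IsMonHom u] :
    ∃ (v : B ⟶ A) (N : ℕ), 0 < N ∧ IsMonHom v ∧ (u ≫ v) ≫ u = u ^ N := by
  haveI := smooth_av A
  haveI := smooth_av B
  haveI : IsCommMonObj A := isCommMonObj_of_isProper_of_geometricallyIntegral A
  haveI : IsCommMonObj B := isCommMonObj_of_isProper_of_geometricallyIntegral B
  haveI : IsIntegral A.left := GeometricallyIntegral.isIntegral_of_subsingleton A.hom
  -- the image
  obtain ⟨C, gC, p, i, hp, hi, hpi, hpf, hps, hpp, hic⟩ :=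
    H19Quot.AbelianCat.exists_image u ⟨inferInstance, inferInstance⟩ ⟨inferInstance, inferInstance⟩
  haveI := hp; haveI := hi; haveI := hpf; haveI := hps; haveI := hpp; haveI := hic
  haveI : Mono i := Over.mono_of_mono_left _
  haveI : IsProper C.hom := by rw [← Over.w i]; infer_instance
  haveI : IsCommMonObj C := isCommMonObj_of_mono i
  haveI : ConnectedSpace C.left := p.left.surjective.connectedSpace p.left.continuous
  haveI : Smooth C.hom := by
    let g : Spec (CommRingCat.of (AlgebraicClosure k)) ⟶ Spec (CommRingCat.of k) :=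
      Spec.map (CommRingCat.ofHom (algebraMap k (AlgebraicClosure k)))
    let F := Over.pullback g
    have hsq := isPullback_bc g p
    haveI : Flat (F.map p).left := MorphismProperty.of_isPullback (P := @Flat) hsq.flip hpf
    haveI : Surjective (F.map p).left := MorphismProperty.of_isPullback (P := @Surjective) hsq.flip hps
    haveI : Smooth (F.obj A).hom := inferInstanceAs (Smooth (pullback.snd A.hom g))
    haveI : IsReduced (F.obj A).left := H19Chev.isReduced_smooth
    haveI : IsReduced (F.obj C).left := H19Grp.isReduced_of_flat_surjective (F.map p).left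
    haveI : LocallyOfFiniteType (F.obj C).hom := inferInstanceAs (LocallyOfFiniteType (pullback.snd C.hom g))
    have h : Smooth (F.obj C).hom := H19Grp.smooth_of_isReduced_perfect _
    exact MorphismProperty.of_isPullback_of_descendsAlong (P := @Smooth)
      (Q := @Surjective ⊓ @Flat ⊓ @QuasiCompact) (IsPullback.of_hasPullback C.hom g).flip
      ⟨⟨inferInstance, inferInstance⟩, inferInstance⟩ h
  haveI : GeometricallyIntegral C.hom := H19Chev.geometricallyIntegral_av C
  obtain ⟨φ, n, hn, hφ, hiφ⟩ := exists_hom_projection i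
  haveI := hφ
  -- the identity component of the kernel
  obtain ⟨gM, hincl⟩ := H19Grp.KernelGrp.exists_grpObj p
  let M := H19Grp.KernelGrp.ker p
  let il : M ⟶ A := H19Grp.KernelGrp.incl p
  haveI : IsMonHom il := hincl
  haveI := H19Grp.AffineQuotient.isClosedImmersion_unit C
  haveI : IsClosedImmersion il.left := MorphismProperty.pullback_fst (P := @IsClosedImmersion) _ _ inferInstance
  haveI : Mono il := Over.mono_of_mono_left _
  haveI : IsCommMonObj M := isCommMonObj_of_mono il
  haveI : IsProper M.hom := by rw [← Over.w il]; infer_instance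
  obtain ⟨K, gK, ik, hik, hikc, hKs, hKr⟩ := S5682.result k M (fun pt => by
    haveI : IsProper (Red.geomFibre pt M).hom := inferInstanceAs (IsProper (pullback.snd M.hom (Red.geomPt pt)))
    exact fun j hj hjc => noGa_of_isProper (Red.geomFibre pt M) j hj hjc) (IsLocalRing.closedPoint k)
  haveI := hik; haveI := hikc; haveI := hKs
  haveI : IsClosedImmersion (ik ≫ il).left := by rw [Over.comp_left]; infer_instance
  haveI : Mono (ik ≫ il) := Over.mono_of_mono_left _
  haveI : IsProper K.hom := by rw [← Over.w ik]; infer_instance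
  haveI : IsCommMonObj K := isCommMonObj_of_mono (ik ≫ il)
  haveI : ConnectedSpace K.left := by
    have hc : _root_.IsConnected (Set.range ik.left) := hKr ▸ isConnected_connectedComponent
    haveI : ConnectedSpace (Set.range ik.left) := isConnected_iff_connectedSpace.1 hc
    exact ik.left.isClosedEmbedding.isEmbedding.toHomeomorph.symm.surjective.connectedSpace
      ik.left.isClosedEmbedding.isEmbedding.toHomeomorph.symm.continuous
  obtain ⟨ψ, m, hm, hψ, hkψ⟩ := exists_hom_projection (ik ≫ il)
  haveI := hψ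
  haveI := isMonHom_pow (G := A) m
  haveI := isMonHom_inv (ψ ≫ ik ≫ il)
  let e : A ⟶ A := (𝟙 A) ^ m * (ψ ≫ ik ≫ il)⁻¹
  haveI : IsMonHom e := isMonHom_mul _ _
  have hilp : il ≫ p = 1 := H19Grp.kernel_comp_eq_one (H19Grp.KernelGrp.isKernel p)
  have hilu : il ≫ u = 1 := by rw [← hpi, ← Category.assoc, hilp, MonObj.one_comp]
  have hke : ik ≫ il ≫ e = 1 := by
    rw [← Category.assoc, MonObj.comp_mul, MonObj.comp_pow, Category.comp_id, GrpObj.comp_inv, ← Category.assoc,
      hkψ, H19Chev.id_pow_comp, comp_id_pow]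
    exact mul_inv_cancel _
  have heu : e ≫ u = u ^ m := by
    rw [MonObj.mul_comp, GrpObj.inv_comp, MonObj.pow_comp, Category.id_comp]
    simp only [Category.assoc, hilu, MonObj.comp_one, inv_one, _root_.mul_one]
  -- the image of the kernel is finite
  obtain ⟨Z, gZ, p', i', hp', hi', hpi', hpf', hps', hpp', hic'⟩ :=
    H19Quot.AbelianCat.exists_image (il ≫ e) ⟨inferInstance, inferInstance⟩ ⟨inferInstance, inferInstance⟩
  haveI := hp'; haveI := hi'; haveI := hpf'; haveI := hps'; haveI := hpp'; haveI := hic'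
  haveI : Mono i' := Over.mono_of_mono_left _
  haveI : IsCommMonObj Z := isCommMonObj_of_mono i'
  haveI : IsProper Z.hom := by rw [← Over.w i']; infer_instance
  haveI hZf : IsFinite Z.hom := by
    have him := H28Neron.SpecialFibreImage.image_eq_of_flat p'
    have hpt : ∀ x ∈ connectedComponent (η[M].left (IsLocalRing.closedPoint k)),
        p'.left x = η[Z].left (IsLocalRing.closedPoint k) := by
      intro x hx
      rw [← hKr] at hx
      obtain ⟨y, rfl⟩ := hx
      have h1 : ik ≫ p' = toUnit K ≫ η[Z] := by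
        rw [← cancel_mono i', Category.assoc, hpi', hke, ← Hom.one_def, MonObj.one_comp]
      rw [← Scheme.Hom.comp_apply, ← Over.comp_left, h1, Over.comp_left, Scheme.Hom.comp_apply]
      exact congrArg η[Z].left (Subsingleton.elim (α := PrimeSpectrum k) _ _)
    have hone : connectedComponent (η[Z].left (IsLocalRing.closedPoint k)) = {η[Z].left (IsLocalRing.closedPoint k)} := by
      refine Set.eq_singleton_iff_unique_mem.2 ⟨mem_connectedComponent, fun z hz => ?_⟩
      rw [← him] at hz
      obtain ⟨x, hx, rfl⟩ := hz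
      exact hpt x hx
    have hopen : IsOpen ({η[Z].left (IsLocalRing.closedPoint k)} : Set Z.left) := by
      rw [← hone]
      refine Eq.subst ?_ ((H19Grp.idCompι Z).left.isOpenEmbedding.isOpen_range)
      exact H19Grp.range_idCompι Z
    haveI : LocallyOfFiniteType (𝟙_ (Over (Spec (CommRingCat.of k)))).hom := inferInstanceAs (LocallyOfFiniteType (𝟙 _))
    haveI : IsSeparated (𝟙_ (Over (Spec (CommRingCat.of k)))).hom := inferInstanceAs (IsSeparated (𝟙 _))
    haveI : IsMonHom (toUnit Z) := inferInstance
    have hf : IsFinite (toUnit Z).left := H28Neron.HomQuasiFinite.isFinite_of_quasiFiniteAt (toUnit Z) (by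
      intro _
      rw [Scheme.Hom.quasiFiniteAt_iff_isOpen_singleton_asFiber,
        ← ((toUnit Z).left.fiberHomeo _).isOpen_image, Set.image_singleton]
      refine isOpen_induced_iff.2 ⟨_, hopen, ?_⟩
      ext z
      simp [Subtype.ext_iff])
    rw [show (toUnit Z).left = Z.hom from (Category.comp_id _).symm.trans (Over.w (toUnit Z))] at hf
    exact hf
  obtain ⟨d, hd, hdk⟩ := exists_pow_eq_one_of_finite Z
  haveI hE : IsMonHom (e ^ d) := by
    rw [← comp_id_pow]
    haveI := isMonHom_pow (G := A) d
    infer_instance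
  have hilE : il ≫ e ^ d = 1 := by
    rw [MonObj.comp_pow, ← hpi', ← MonObj.pow_comp, ← comp_id_pow p', hdk, MonObj.comp_one, MonObj.one_comp]
  obtain ⟨w, hw, -⟩ := H19Grp.QuotientDesc.existsUnique_desc p (e ^ d) fun T a b hab => by
    obtain ⟨y, hy⟩ := H19Grp.kernel_lift (H19Grp.KernelGrp.isKernel p) (a * b⁻¹) (by
      rw [MonObj.mul_comp, GrpObj.inv_comp, hab, mul_inv_cancel])
    have h : (a * b⁻¹) ≫ e ^ d = 1 := by
      rw [← hy, Category.assoc]
      show y ≫ il ≫ e ^ d = 1
      rw [hilE, MonObj.comp_one]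
    rw [MonObj.mul_comp, GrpObj.inv_comp] at h
    exact eq_of_mul_inv_eq_one h
  haveI : IsMonHom w := H25Rig.isMonHom_of_one_hom w (by
    rw [← IsMonHom.one_hom p, Category.assoc, hw, IsMonHom.one_hom])
  refine ⟨φ ≫ w, m * d * n, Nat.mul_pos (Nat.mul_pos hm hd) hn, inferInstance, ?_⟩
  have h1 : u ≫ φ ≫ w = (e ^ d) ^ n := by
    rw [← hpi, Category.assoc, reassoc_of% hiφ, MonObj.pow_comp, Category.id_comp, MonObj.comp_pow, hw]
  rw [h1, MonObj.pow_comp, MonObj.pow_comp, heu, ← pow_mul, ← pow_mul, Nat.mul_assoc]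

end Groth.Agent.H28SemiAb
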