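import Groth.Agent.H28SemiAb.GaExt
import Groth.Agent.H21Diag.BaseChange
import Groth.Prelude.Def_SGA7IX

/-!
# Unipotent rank zero is stable under base change
-/

set_option autoImplicit false
set_option linter.style.haveILetI false
set_option linter.unusedSectionVars false
set_option backward.isDefEq.respectTransparency false
set_option backward.isDefEq.respectTransparency.types false
set_option maxHeartbeats 1000000
set_option synthInstance.maxHeartbeats 200000
universe u

open CategoryTheory CategoryTheory.Limits MonoidalCategory CartesianMonoidalCategory MonObj AlgebraicGeometry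
open Groth.Agent

noncomputable section

namespace Groth.Agent.H28SemiAb

attribute [local instance] Functor.grpObjObj
attribute [local instance 2000] Hom.group Hom.monoid

theorem NoGa.of_iso {k : Type u} [Field k] {A B : Over (Spec (CommRingCat.of k))} [GrpObj A] [GrpObj B]
    (e : Grp.mk A ≅ Grp.mk B) (hB : NoGa B) : NoGa A := by
  let e' : A ≅ B := (Grp.forget _).mapIso e
  haveI : IsMonHom e'.hom := e.hom.hom.isMonHom_hom
  haveI : IsIso e'.hom.left := inferInstanceAs (IsIso ((Over.forget _).map e'.hom))
  exact hB.of_closed e'.hom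

/-- Unipotent rank zero of a smooth commutative group is stable under base change. -/
theorem fibresUnipotentRankZero_bc {S T : Scheme.{u}} (σ : T ⟶ S) (N : Over S) [GrpObj N] [IsCommMonObj N]
    [Smooth N.hom] [QuasiCompact N.hom] (hN : SGA7.FibresUnipotentRankZero N) :
    SGA7.FibresUnipotentRankZero (Red.bc σ N) := by
  intro t
  let s : S := σ t
  let Ω' := AlgebraicClosure (T.residueField t)
  let c : (S.residueField s : Type u) →+* Ω' :=
    (algebraMap (T.residueField t) Ω').comp (σ.residueFieldMap t).hom
  letI := c.toAlgebra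
  let e : AlgebraicClosure (S.residueField s) →ₐ[(S.residueField s : Type u)] Ω' := IsAlgClosed.lift
  let g : Spec (CommRingCat.of Ω') ⟶ Spec (CommRingCat.of (AlgebraicClosure (S.residueField s))) :=
    Spec.map (CommRingCat.ofHom e.toRingHom)
  have hg : g ≫ Red.geomPt s = Red.geomPt t ≫ σ := by
    show g ≫ Spec.map _ ≫ _ = (Spec.map _ ≫ _) ≫ σ
    rw [Category.assoc, ← σ.SpecMap_residueFieldMap_fromSpecResidueField t, ← Category.assoc g, ← Category.assoc
      (Spec.map (CommRingCat.ofHom (algebraMap (T.residueField t) _))), ← Spec.map_comp, ← Spec.map_comp]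
    congr 2
    exact CommRingCat.hom_ext e.comp_algebraMap
  let Ns := Red.bc (Red.geomPt s) N
  haveI : Smooth Ns.hom := inferInstanceAs (Smooth (pullback.snd N.hom (Red.geomPt s)))
  haveI : QuasiCompact Ns.hom := inferInstanceAs (QuasiCompact (pullback.snd N.hom (Red.geomPt s)))
  haveI : IsCommMonObj Ns := inferInstance
  have h1 : NoGa ((Over.pullback g).obj Ns) := NoGa.bc (X := Ns) (fun j hj hjc => hN s j hj hjc) g
  have h2 : NoGa (Red.bc (Red.geomPt t) (Red.bc σ N)) :=
    NoGa.of_iso ((H21Diag.bcCompIso (Red.geomPt t) σ N).symm ≪≫ H21Diag.bcCongrIso hg.symm N ≪≫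
      H21Diag.bcCompIso g (Red.geomPt s) N) h1
  exact fun j hj hjc => h2 j hj hjc

end Groth.Agent.H28SemiAb
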